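import Mathlib.GroupTheory.SchurZassenhaus
import Mathlib.RingTheory.WittVector.Truncated
import Mathlib.RingTheory.WittVector.Domain
import Mathlib.RingTheory.WittVector.DiscreteValuationRing
import Mathlib.FieldTheory.IsAlgClosed.Classification
import Mathlib.Analysis.Complex.Polynomial.Basic
import Mathlib.Analysis.Real.Cardinality
import Mathlib.Algebra.Field.TransferInstance
import Mathlib.RingTheory.Localization.Cardinality
import Mathlib.RingTheory.Algebraic.Cardinality
import Mathlib.FieldTheory.Finite.Basic
import Mathlib.Logic.Small.Basic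

/-!
# Lifting a linear group of order prime to the characteristic to the complex numbers

A finite subgroup of order prime to the characteristic lifts step by step to the truncated Witt
vectors by the Schur–Zassenhaus theorem, and hence to the Witt vectors, whose fraction field embeds
into the complex numbers.
-/

set_option autoImplicit false

namespace Cfsg.Agent.ResidualThree.Lift

open Matrix
open scoped MatrixGroups

universe u v

/-- Homomorphisms lift through a kernel of coprime order. -/
theorem exists_hom_lift {A B Γ : Type*} [Group A] [Group B] [Group Γ] [Finite A] [Finite Γ]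
    (f : A →* B) (hf : Function.Surjective f) (hcop : (Nat.card f.ker).Coprime (Nat.card Γ))
    (ρ : Γ →* B) : ∃ σ : Γ →* A, f.comp σ = ρ := by
  classical
  let H : Subgroup (A × Γ) := (f.comp (MonoidHom.fst A Γ)).eqLocus (ρ.comp (MonoidHom.snd A Γ))
  let pr : H →* Γ := (MonoidHom.snd A Γ).comp H.subtype
  have hpr : Function.Surjective pr := fun g => by
    obtain ⟨a, ha⟩ := hf (ρ g)
    exact ⟨⟨(a, g), ha⟩, rfl⟩
  have hmem : ∀ x : H, f x.1.1 = ρ x.1.2 := fun x => x.2
  have hker : Nat.card pr.ker = Nat.card f.ker := by
    refine Nat.card_congr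
      { toFun := fun x => ⟨x.1.1.1, ?_⟩
        invFun := fun a => ⟨⟨(a.1, 1), ?_⟩, rfl⟩
        left_inv := fun x => ?_
        right_inv := fun a => rfl }
    · rw [MonoidHom.mem_ker, hmem x.1, show x.1.1.2 = 1 from x.2, map_one]
    · show f a.1 = ρ 1
      rw [map_one]; exact a.2
    · exact Subtype.ext (Subtype.ext (Prod.ext rfl (Eq.symm x.2)))
  have hidx : pr.ker.index = Nat.card Γ := by
    rw [Subgroup.index_ker, MonoidHom.range_eq_top.2 hpr, Subgroup.card_top]
  obtain ⟨C, hC⟩ := Subgroup.exists_right_complement'_of_coprime (N := pr.ker) (by rwa [hker, hidx])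
  let q : C →* Γ := pr.comp C.subtype
  have hinj : Function.Injective q := (injective_iff_map_eq_one q).2 fun c hc =>
    Subtype.ext (Subgroup.disjoint_def.1 hC.disjoint (show (c : H) ∈ pr.ker from hc) c.2)
  have hq : Function.Bijective q :=
    (Nat.bijective_iff_injective_and_card q).2 ⟨hinj, hC.symm.index_eq_card.symm.trans hidx⟩
  let e : C ≃* Γ := MulEquiv.ofBijective q hq
  refine ⟨(((MonoidHom.fst A Γ).comp H.subtype).comp C.subtype).comp e.symm.toMonoidHom, ?_⟩
  refine MonoidHom.ext fun g => ?_
  show f ((e.symm g : C) : H).1.1 = ρ g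
  rw [hmem]
  exact congrArg ρ (e.apply_symm_apply g)

section Ring

variable {ι : Type} [Fintype ι] [DecidableEq ι] {A B : Type v} [CommRing A] [CommRing B] [Finite A]
  (π : A →+* B) (hπ : Function.Surjective π) (hloc : ∀ x, π x = 1 → IsUnit x)

include hloc in
theorem isUnit_of_map {M : Matrix ι ι A} (h : M.map π = 1) : IsUnit M := by
  rw [Matrix.isUnit_iff_isUnit_det]
  refine hloc _ ?_
  rw [RingHom.map_det, show π.mapMatrix M = M.map π from rfl, h, det_one]

include hπ hloc in
theorem map_surjective : Function.Surjective (Matrix.GeneralLinearGroup.map (n := ι) π) := by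
  intro g
  choose M hM using fun i j => hπ ((g : Matrix ι ι B) i j)
  choose N hN using fun i j => hπ ((g⁻¹ : GL ι B) i j)
  have hMg : (Matrix.of M).map π = (g : Matrix ι ι B) := by ext i j; exact hM i j
  have hNg : (Matrix.of N).map π = ((g⁻¹ : GL ι B) : Matrix ι ι B) := by ext i j; exact hN i j
  have h1 : IsUnit (Matrix.of M * Matrix.of N) := isUnit_of_map π hloc (by
    rw [Matrix.map_mul, hMg, hNg, ← Units.val_mul, mul_inv_cancel, Units.val_one])
  have h2 : IsUnit (Matrix.of M).det := by
    rw [Matrix.isUnit_iff_isUnit_det, det_mul] at h1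
    exact isUnit_of_mul_isUnit_left h1
  exact ⟨((Matrix.isUnit_iff_isUnit_det _).2 h2).unit, Units.ext hMg⟩

include hloc in
theorem card_ker_dvd :
    Nat.card (Matrix.GeneralLinearGroup.map (n := ι) π).ker ∣ Nat.card A ^ Nat.card (ι × ι) := by
  have hI : Nat.card π.toAddMonoidHom.ker ∣ Nat.card A := AddSubgroup.card_addSubgroup_dvd_card _
  refine dvd_trans (dvd_of_eq ?_) (pow_dvd_pow_of_dvd hI _)
  rw [← Nat.card_fun]
  have hu : ∀ N : ι × ι → π.toAddMonoidHom.ker,
      (1 + Matrix.of fun i j => (N (i, j) : A)).map π = 1 := fun N => by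
    ext i j
    rw [Matrix.map_apply, Matrix.add_apply, map_add, of_apply,
      show π (N (i, j) : A) = 0 from (N (i, j)).2, add_zero, Matrix.one_apply, Matrix.one_apply]
    split_ifs <;> simp
  refine Nat.card_congr
    { toFun := fun g q => ⟨(g.1 : Matrix ι ι A) q.1 q.2 - (1 : Matrix ι ι A) q.1 q.2, ?_⟩
      invFun := fun N => ⟨(isUnit_of_map π hloc (hu N)).unit, Units.ext (hu N)⟩
      left_inv := fun g => Subtype.ext (Units.ext ?_)
      right_inv := fun N => funext fun q => Subtype.ext ?_ }
  · have := congrArg (fun u : GL ι B => (u : Matrix ι ι B) q.1 q.2) g.2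
    show π (_ - _) = 0
    rw [map_sub, sub_eq_zero]
    refine this.trans ?_
    simp [Matrix.one_apply, apply_ite π]
  · ext i j
    simp
  · simp

include hπ hloc in
/-- Lifting along a surjection of finite rings. -/
theorem exists_GL_lift {Γ : Type*} [Group Γ] [Finite Γ] (hcop : (Nat.card A).Coprime (Nat.card Γ))
    (ρ : Γ →* GL ι B) : ∃ σ : Γ →* GL ι A, (Matrix.GeneralLinearGroup.map π).comp σ = ρ :=
  exists_hom_lift _ (map_surjective π hπ hloc)
    ((hcop.pow_left (Nat.card (ι × ι))).coprime_dvd_left (card_ker_dvd π hloc)) ρ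

end Ring

section Witt

variable {F : Type v} [Field F] [Finite F] {p : ℕ} [Fact p.Prime] [CharP F p]

local notation "T" k => TruncatedWittVector p (k + 1) F

omit [Field F] [CharP F p] [Fact p.Prime] in
theorem card_trunc (k : ℕ) : Nat.card (TruncatedWittVector p k F) = Nat.card F ^ k := by
  show Nat.card (Fin k → F) = _
  rw [Nat.card_fun, Nat.card_fin]

instance finite_trunc (k : ℕ) : Finite (TruncatedWittVector p k F) :=
  inferInstanceAs (Finite (Fin k → F))

omit [Finite F] in
theorem isUnit_trunc {k : ℕ} {x : T k} (h : x.coeff 0 ≠ 0) : IsUnit x := by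
  obtain ⟨w, rfl⟩ := WittVector.truncate_surjective p (k + 1) F x
  rw [WittVector.coeff_truncate] at h
  exact (WittVector.isUnit_of_coeff_zero_ne_zero w h).map _

omit [Finite F] in
theorem coeff_zero_truncate {k m : ℕ} (h : k + 1 ≤ m + 1) (x : T m) :
    (TruncatedWittVector.truncate h x).coeff 0 = x.coeff 0 := by
  rw [TruncatedWittVector.coeff_truncate]
  exact congrArg (fun i => x.coeff i) (Fin.ext (by simp))

/-- The first truncation is the field. -/
noncomputable def toField : (T 0) →+* F where
  toFun x := x.coeff 0
  map_one' := by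
    rw [← map_one (WittVector.truncate (p := p) (R := F) 1), WittVector.coeff_truncate]
    exact WittVector.one_coeff_zero p F
  map_zero' := TruncatedWittVector.coeff_zero _ _ _ _
  map_mul' x y := by
    obtain ⟨a, rfl⟩ := WittVector.truncate_surjective p 1 F x
    obtain ⟨b, rfl⟩ := WittVector.truncate_surjective p 1 F y
    rw [← map_mul, WittVector.coeff_truncate, WittVector.coeff_truncate, WittVector.coeff_truncate]
    exact map_mul (WittVector.constantCoeff (p := p) (R := F)) a b
  map_add' x y := by
    obtain ⟨a, rfl⟩ := WittVector.truncate_surjective p 1 F x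
    obtain ⟨b, rfl⟩ := WittVector.truncate_surjective p 1 F y
    rw [← map_add, WittVector.coeff_truncate, WittVector.coeff_truncate, WittVector.coeff_truncate]
    exact map_add (WittVector.constantCoeff (p := p) (R := F)) a b

variable {ι : Type} [Fintype ι] [DecidableEq ι] (P : Subgroup (GL ι F)) (hp : ¬ p ∣ Nat.card P)

include hp in
theorem coprime_trunc (k : ℕ) : (Nat.card (TruncatedWittVector p k F)).Coprime (Nat.card P) := by
  haveI : Fintype F := Fintype.ofFinite F
  obtain ⟨n, hn, hcard⟩ := FiniteField.card F p
  rw [card_trunc, Nat.card_eq_fintype_card (α := F), hcard]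
  exact ((hn.coprime_iff_not_dvd.2 hp).pow_left _).pow_left _

/-- The reduction from one truncation to the previous one. -/
noncomputable def red (k : ℕ) : (T (k + 1)) →+* (T k) :=
  TruncatedWittVector.truncate (Nat.le_succ (k + 1))

theorem red_truncate (k : ℕ) (w : WittVector p F) :
    red k (WittVector.truncate (k + 2) w) = WittVector.truncate (k + 1) w :=
  TruncatedWittVector.truncate_wittVector_truncate _ w

omit [Finite F] in
theorem isUnit_of_red {k : ℕ} (x : T (k + 1)) (h : red k x = 1) : IsUnit x := by
  refine isUnit_trunc ?_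
  rw [← coeff_zero_truncate (Nat.le_succ (k + 1)) x]
  show (red k x).coeff 0 ≠ 0
  rw [h, ← map_one (WittVector.truncate (p := p) (R := F) (k + 1)), WittVector.coeff_truncate]
  show (1 : WittVector p F).coeff 0 ≠ 0
  rw [WittVector.one_coeff_zero]
  exact one_ne_zero

include hp in
theorem exists_tower : ∃ σ : ∀ k, P →* GL ι (T k),
    (Matrix.GeneralLinearGroup.map toField).comp (σ 0) = P.subtype ∧
      ∀ k, (Matrix.GeneralLinearGroup.map (red k)).comp (σ (k + 1)) = σ k := by
  classical
  obtain ⟨σ₀, h₀⟩ := exists_GL_lift (toField (F := F) (p := p))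
    (fun a => ⟨WittVector.truncate 1 (WittVector.mk p fun _ => a), by
      show (WittVector.truncate 1 (WittVector.mk p fun _ => a)).coeff 0 = a
      rw [WittVector.coeff_truncate]
      rfl⟩)
    (fun x h => isUnit_trunc (k := 0) (by rw [show x.coeff 0 = 1 from h]; exact one_ne_zero))
    (coprime_trunc P hp 1) P.subtype
  choose next hnext using fun (k : ℕ) (τ : P →* GL ι (T k)) =>
    exists_GL_lift (red (F := F) (p := p) k) (TruncatedWittVector.truncate_surjective _)
      isUnit_of_red (coprime_trunc P hp (k + 2)) τ
  exact ⟨fun k => Nat.rec (motive := fun k => P →* GL ι (T k)) σ₀ next k, h₀, fun k => hnext k _⟩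

include hp in
/-- The group lifts to the Witt vectors. -/
theorem exists_witt : ∃ τ : P →* GL ι (WittVector p F),
    (Matrix.GeneralLinearGroup.map (WittVector.constantCoeff)).comp τ = P.subtype := by
  classical
  obtain ⟨σ, h₀, hσ⟩ := exists_tower P hp
  let A : P → Matrix ι ι (WittVector p F) := fun g i j =>
    WittVector.mk p fun k => ((σ k g : GL ι (T k)) i j).coeff (Fin.last k)
  have htr : ∀ (m : ℕ) (k : ℕ) (hk : k ≤ m) (g : P) (i j : ι),
      ((σ m g : GL ι (T m)) i j).coeff ⟨k, Nat.lt_succ_of_le hk⟩ =
        ((σ k g : GL ι (T k)) i j).coeff (Fin.last k) := by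
    intro m
    induction m with
    | zero => intro k hk g i j; obtain rfl := Nat.le_zero.1 hk; rfl
    | succ m ih =>
      intro k hk g i j
      rcases Nat.eq_or_lt_of_le hk with rfl | hlt
      · rfl
      rw [← ih k (Nat.lt_succ_iff.1 hlt) g i j, ← hσ m]
      show _ = (red m ((σ (m + 1) g : GL ι (T (m + 1))) i j)).coeff ⟨k, hlt⟩
      rw [red, TruncatedWittVector.coeff_truncate]
      rfl
  have hA : ∀ g m, (A g).map (WittVector.truncate (m + 1)) = ((σ m g : GL ι (T m)) : Matrix ι ι (T m)) := by
    intro g m
    ext i j t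
    rw [Matrix.map_apply, WittVector.coeff_truncate]
    exact (htr m t (Nat.lt_succ_iff.1 t.2) g i j).symm
  have hext : ∀ M N : Matrix ι ι (WittVector p F),
      (∀ m, M.map (WittVector.truncate (m + 1)) = N.map (WittVector.truncate (m + 1))) → M = N := by
    intro M N h
    ext i j n
    have := congrArg (fun R : Matrix ι ι (T n) => (R i j).coeff (Fin.last n)) (h n)
    simpa [Matrix.map_apply, WittVector.coeff_truncate] using this
  let Am : P →* Matrix ι ι (WittVector p F) :=
    { toFun := A
      map_one' := hext _ _ fun m => by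
        rw [hA, map_one, Units.val_one, Matrix.map_one _ (map_zero _) (map_one _)]
      map_mul' := fun g h => hext _ _ fun m => by
        rw [hA, map_mul, Units.val_mul, Matrix.map_mul, hA, hA] }
  refine ⟨Am.toHomUnits, ?_⟩
  refine MonoidHom.ext fun g => Units.ext ?_
  ext i j
  rw [← h₀]
  show (A g i j).coeff 0 = ((σ 0 g : GL ι (T 0)) i j).coeff 0
  rfl

omit [Finite F] in
theorem charZero_witt : CharZero (WittVector p F) := by
  refine charZero_of_inj_zero fun n hn => ?_
  by_contra hne
  obtain ⟨e, m, hm, rfl⟩ := Nat.exists_eq_pow_mul_and_not_dvd hne p (Fact.out : p.Prime).ne_one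
  rw [Nat.cast_mul, Nat.cast_pow, mul_eq_zero] at hn
  rcases hn with h | h
  · exact WittVector.p_nonzero p F (pow_eq_zero_iff'.1 h).1
  · have := congrArg (WittVector.constantCoeff (p := p) (R := F)) h
    rw [map_natCast, map_zero, CharP.cast_eq_zero_iff F p] at this
    exact hm this

end Witt

open Cardinal in
/-- The Witt vectors of a finite field embed into the complex numbers. -/
theorem exists_witt_embedding (F : Type) [Field F] [Finite F] (p : ℕ) [Fact p.Prime] [CharP F p] :
    ∃ f : WittVector p F →+* ℂ, Function.Injective f := by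
  haveI : CharZero (WittVector p F) := charZero_witt
  let K := FractionRing (WittVector p F)
  let L := AlgebraicClosure K
  haveI : CharZero K := IsFractionRing.charZero_of_isFractionRing (WittVector p F)
  haveI : CharZero L := charZero_of_injective_algebraMap (algebraMap K L).injective
  let i : WittVector p F →+* L := (algebraMap K L).comp (algebraMap (WittVector p F) K)
  have hi : Function.Injective i :=
    (algebraMap K L).injective.comp (IsFractionRing.injective (WittVector p F) K)
  have hW : #(WittVector p F) = 𝔠 := by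
    have e : WittVector p F ≃ (ℕ → F) :=
      ⟨WittVector.coeff, WittVector.mk p, fun x => WittVector.ext fun _ => rfl, fun _ => rfl⟩
    haveI : Fintype F := Fintype.ofFinite F
    rw [Cardinal.mk_congr e, Cardinal.mk_arrow, Cardinal.lift_id, Cardinal.lift_id, Cardinal.mk_nat,
      Cardinal.mk_fintype, Cardinal.nat_power_aleph0 Fintype.one_lt_card]
  have hK : #K ≤ 𝔠 := by
    rw [Cardinal.mk_fractionRing]
    exact hW.le
  have hL : #L = 𝔠 := le_antisymm
    ((Algebra.IsAlgebraic.cardinalMk_le_max K L).trans (max_le hK aleph0_le_continuum))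
    (hW ▸ Cardinal.mk_le_of_injective hi)
  obtain ⟨e⟩ := IsAlgClosed.ringEquiv_of_equiv_of_charZero (K := L) (L := ℂ)
    (hL ▸ aleph0_lt_continuum) (Cardinal.eq.1 (hL.trans Cardinal.mk_complex.symm))
  exact ⟨e.toRingHom.comp i, e.injective.comp hi⟩

theorem GL_map_injective {ι : Type*} [Fintype ι] [DecidableEq ι] {A B : Type*} [CommRing A] [CommRing B]
    (f : A →+* B) (hf : Function.Injective f) : Function.Injective (Matrix.GeneralLinearGroup.map (n := ι) f) :=
  fun x y h => Units.ext (Matrix.map_injective hf (congrArg Units.val h))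

/-- A linear group over a finite field of order prime to the characteristic is a complex linear group. -/
theorem exists_complex {ι : Type} [Fintype ι] [DecidableEq ι] {F : Type u} [Field F] [Finite F]
    (P : Subgroup (GL ι F)) (p : ℕ) [Fact p.Prime] [CharP F p] (hp : ¬ p ∣ Nat.card P) :
    ∃ ρ : P →* GL ι ℂ, Function.Injective ρ := by
  letI : Field (Shrink.{0} F) := (equivShrink.{0} F).symm.field
  let e : Shrink.{0} F ≃+* F := (equivShrink.{0} F).symm.ringEquiv
  haveI : Finite (Shrink.{0} F) := Finite.of_equiv _ (equivShrink.{0} F)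
  haveI : CharP (Shrink.{0} F) p := charP_of_injective_ringHom (f := e.symm.toRingHom) e.symm.injective p
  let φ : GL ι F →* GL ι (Shrink.{0} F) := Matrix.GeneralLinearGroup.map e.symm.toRingHom
  have hφ : Function.Injective φ := GL_map_injective _ e.symm.injective
  let Q := P.map φ
  let eP : P ≃* Q := P.equivMapOfInjective φ hφ
  obtain ⟨τ, hτ⟩ := exists_witt (p := p) Q (by
    rwa [show Nat.card Q = Nat.card P from (Nat.card_congr eP.toEquiv).symm])
  obtain ⟨f, hf⟩ := exists_witt_embedding (Shrink.{0} F) p
  have hinj : Function.Injective τ := fun x y h => Q.subtype_injective (by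
    rw [← hτ]; exact congrArg (Matrix.GeneralLinearGroup.map (WittVector.constantCoeff)) h)
  exact ⟨((Matrix.GeneralLinearGroup.map f).comp τ).comp eP.toMonoidHom,
    ((GL_map_injective f hf).comp hinj).comp eP.injective⟩

end Cfsg.Agent.ResidualThree.Lift
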