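import Mathlib
import Cfsg.Agent.S0799
import Cfsg.Agent.SmallOrder.Below6000
import Cfsg.Agent.Classical.SmallPSL
import Cfsg.Agent.FittingPQ.Linear

/-!
Simple subgroups of the two-dimensional projective groups with a three-dimensional complex representation.
-/

set_option autoImplicit false
set_option linter.style.haveILetI false

namespace Cfsg.Agent.ResidualThree

open Matrix
open scoped MatrixGroups

namespace Lift

variable {K : Type*} [Field K]

/-- The upper unitriangular matrices. -/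
def upM (x : K) : SpecialLinearGroup (Fin 2) K := ⟨!![1, x; 0, 1], by simp [Matrix.det_fin_two]⟩

/-- The diagonal matrices. -/
def diagM (t : Kˣ) : SpecialLinearGroup (Fin 2) K :=
  ⟨!![(t : K), 0; 0, (t⁻¹ : Kˣ)], by simp [Matrix.det_fin_two]⟩

/-- The upper unitriangular elements. -/
def upT (x : K) : ProjectiveSpecialLinearGroup (Fin 2) K :=
  QuotientGroup.mk (upM x)

/-- The diagonal elements. -/
def diagT (t : Kˣ) : ProjectiveSpecialLinearGroup (Fin 2) K :=
  QuotientGroup.mk (diagM t)

theorem upT_add (x y : K) : upT (x + y) = upT x * upT y := by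
  refine (congrArg QuotientGroup.mk (?_ : upM (x + y) = upM x * upM y)).trans (QuotientGroup.mk_mul _ _ _)
  refine Subtype.ext ?_
  show !![1, x + y; 0, 1] = !![1, x; 0, 1] * !![1, y; 0, 1]
  simp [add_comm]

theorem upT_zero : upT (0 : K) = 1 := by
  have h := upT_add (0 : K) 0
  rw [add_zero] at h
  exact mul_eq_left.1 h.symm

theorem upT_nsmul (x : K) : ∀ n : ℕ, upT (n • x) = upT x ^ n
  | 0 => by rw [zero_nsmul, pow_zero, upT_zero]
  | n + 1 => by rw [succ_nsmul, upT_add, upT_nsmul x n, pow_succ]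

theorem upT_comm (x y : K) : upT x * upT y = upT y * upT x := by
  rw [← upT_add, ← upT_add, add_comm]

theorem upT_one_ne : upT (1 : K) ≠ 1 := by
  intro h
  obtain ⟨r, -, hr⟩ := Matrix.SpecialLinearGroup.mem_center_iff.1 ((QuotientGroup.eq_one_iff _).1 h)
  have := congrFun (congrFun hr 0) 1
  simp [upM] at this

theorem diagT_upT (t : Kˣ) (x : K) : upT ((t : K) ^ 2 * x) * diagT t = diagT t * upT x := by
  refine (QuotientGroup.mk_mul _ _ _).symm.trans
    ((congrArg QuotientGroup.mk (?_ : upM ((t : K) ^ 2 * x) * diagM t = diagM t * upM x)).trans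
      (QuotientGroup.mk_mul _ _ _))
  refine Subtype.ext ?_
  show !![1, (t : K) ^ 2 * x; 0, 1] * !![(t : K), 0; 0, (t⁻¹ : Kˣ)] = !![(t : K), 0; 0, (t⁻¹ : Kˣ)] * !![1, x; 0, 1]
  simp
  field_simp

/-- Vectors with pairwise different characters are independent. -/
theorem linearIndependent_of_chars {L V ι X : Type*} [Field L] [AddCommGroup V] [Module L V]
    (f : X → Module.End L V) (v : ι → V) (χ : ι → X → L) (hv : ∀ i, v i ≠ 0)
    (hev : ∀ i x, f x (v i) = χ i x • v i) (hχ : ∀ i j, i ≠ j → χ i ≠ χ j) : LinearIndependent L v := by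
  classical
  rw [linearIndependent_iff']
  intro s
  induction s using Finset.induction_on with
  | empty => exact fun g _ i hi => absurd hi (Finset.notMem_empty i)
  | @insert j s hj ih =>
    intro g hg
    rw [Finset.sum_insert hj] at hg
    have h1 : ∀ x i, i ∈ s → g i * (χ i x - χ j x) = 0 := by
      intro x
      refine ih (fun i => g i * (χ i x - χ j x)) ?_
      have h2 : f x (g j • v j + ∑ i ∈ s, g i • v i) - χ j x • (g j • v j + ∑ i ∈ s, g i • v i) = 0 := by
        rw [hg, map_zero, smul_zero, sub_zero]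
      simp only [map_add, map_sum, map_smul, hev, smul_add, Finset.smul_sum, smul_smul] at h2
      rw [add_sub_add_comm, mul_comm (g j), sub_self, zero_add, ← Finset.sum_sub_distrib] at h2
      rw [← h2]
      refine Finset.sum_congr rfl fun i _ => ?_
      rw [← sub_smul]
      ring_nf
    have h2 : ∀ i ∈ s, g i = 0 := fun i hi => by
      obtain ⟨x, hx⟩ := Function.ne_iff.1 (hχ i j fun e => hj (e ▸ hi))
      exact (mul_eq_zero.1 (h1 x i hi)).resolve_right (sub_ne_zero.2 hx)
    intro i hi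
    rcases Finset.mem_insert.1 hi with rfl | hi
    · rw [Finset.sum_eq_zero (fun k hk => by rw [h2 k hk, zero_smul]), add_zero] at hg
      exact (smul_eq_zero.1 hg).resolve_right (hv _)
    · exact h2 i hi

/-- The characteristic is bounded for a faithful complex representation of dimension three. -/
theorem card_field_le [Fintype K] (ρ : ProjectiveSpecialLinearGroup (Fin 2) K →* GL (Fin 3) ℂ)
    (hρ : Function.Injective ρ) : Fintype.card K ≤ 7 := by
  classical
  obtain ⟨r, hr⟩ := CharP.exists K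
  have hrp : r.Prime := CharP.char_is_prime K r
  let f : K → Module.End ℂ (Fin 3 → ℂ) := fun x => Matrix.toLin' (ρ (upT x) : Matrix (Fin 3) (Fin 3) ℂ)
  have hf : ∀ x y, f x * f y = f (x + y) := fun x y => by
    show Matrix.toLin' _ ∘ₗ Matrix.toLin' _ = _
    rw [← Matrix.toLin'_mul, ← Units.val_mul, ← map_mul, ← upT_add]
  have hfc : ∀ x y, Commute (f x) (f y) := fun x y => by
    show f x * f y = f y * f x
    rw [hf, hf, add_comm]
  have hfr : f 1 ^ r = 1 := by
    have : ∀ n : ℕ, f 1 ^ n = f (n • (1 : K)) := fun n => by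
      induction n with
      | zero => simp [f, upT_zero, Module.End.one_eq_id]
      | succ n ih => rw [pow_succ, ih, hf, succ_nsmul]
    rw [this, nsmul_one, CharP.cast_eq_zero]
    simp [f, upT_zero, Module.End.one_eq_id]
  let S := ∑ i ∈ Finset.range r, f 1 ^ i
  let W := LinearMap.ker S
  have hW : W ≠ ⊥ := by
    intro hb
    apply upT_one_ne (K := K)
    refine hρ ?_
    rw [map_one]
    refine Units.ext ?_
    have h0 : S * (f 1 - 1) = 0 := by rw [geom_sum_mul, hfr, sub_self]
    have h1 : f 1 = 1 := by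
      refine LinearMap.ext fun v => ?_
      have hv : (f 1 - 1) v ∈ W := LinearMap.mem_ker.2 (LinearMap.congr_fun h0 v)
      rw [hb, Submodule.mem_bot, LinearMap.sub_apply, sub_eq_zero] at hv
      exact hv
    exact Matrix.toLin'.injective (h1.trans Matrix.toLin'_one.symm)
  have hinv : ∀ x, ∀ w ∈ W, f x w ∈ W := fun x w hw => by
    have hc : Commute S (f x) := Commute.sum_left _ _ _ fun i _ => (hfc 1 x).pow_left i
    show S (f x w) = 0
    rw [← Module.End.mul_apply, hc.eq, Module.End.mul_apply, LinearMap.mem_ker.1 hw, map_zero]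
  haveI : Nontrivial W := Submodule.nontrivial_iff_ne_bot.2 hW
  obtain ⟨⟨v, hvW⟩, hv0, hev⟩ := FittingPQ.exists_common_eigenvector (fun x => (f x).restrict (hinv x))
    fun x y => by
      refine LinearMap.ext fun w => Subtype.ext ?_
      exact LinearMap.congr_fun (hfc x y).eq w.1
  choose χ hχ using hev
  have hχ' : ∀ x, f x v = χ x • v := fun x => congrArg Subtype.val (hχ x)
  have hv : v ≠ 0 := fun e => hv0 (Subtype.ext e)
  have hχ0 : χ 0 = 1 := by
    have h := hχ' 0
    simp only [f, upT_zero, map_one, Units.val_one, Matrix.toLin'_one, LinearMap.id_coe, id_eq] at h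
    exact (smul_left_injective ℂ hv (show χ 0 • v = (1 : ℂ) • v by rw [one_smul, ← h]))
  have hχadd : ∀ x y, χ (x + y) = χ x * χ y := fun x y => smul_left_injective ℂ hv (by
    show χ (x + y) • v = (χ x * χ y) • v
    rw [← hχ', ← hf, Module.End.mul_apply, hχ', map_smul, hχ', smul_smul, mul_comm])
  have hχne : χ 1 ≠ 1 := by
    intro e
    have hp : ∀ n : ℕ, (f 1 ^ n) v = v := fun n => by
      induction n with
      | zero => rfl
      | succ n ih => rw [pow_succ, Module.End.mul_apply, hχ', e, one_smul, ih]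
    have h := LinearMap.mem_ker.1 hvW
    simp only [S, LinearMap.sum_apply, hp, Finset.sum_const, Finset.card_range] at h
    rw [← Nat.cast_smul_eq_nsmul ℂ, smul_eq_zero] at h
    exact h.elim (Nat.cast_ne_zero.2 hrp.ne_zero) hv
  -- the torus
  let d : Kˣ → Module.End ℂ (Fin 3 → ℂ) := fun t => Matrix.toLin' (ρ (diagT t) : Matrix (Fin 3) (Fin 3) ℂ)
  have hd : ∀ (t : Kˣ) x, f ((t : K) ^ 2 * x) (d t v) = χ x • d t v := fun t x => by
    rw [← map_smul, ← hχ']
    show (f ((t : K) ^ 2 * x) * d t) v = (d t * f x) v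
    congr 1
    show Matrix.toLin' _ ∘ₗ Matrix.toLin' _ = Matrix.toLin' _ ∘ₗ Matrix.toLin' _
    rw [← Matrix.toLin'_mul, ← Matrix.toLin'_mul, ← Units.val_mul, ← Units.val_mul, ← map_mul, ← map_mul,
      diagT_upT]
  let sq : Finset Kˣ := Finset.univ.image fun t : Kˣ => t ^ 2
  have hex : ∀ a : sq, ∃ t : Kˣ, t ^ 2 = (a : Kˣ) := fun a => by
    obtain ⟨t, -, ht⟩ := Finset.mem_image.1 a.2
    exact ⟨t, ht⟩
  choose root hroot using hex
  let χa : sq → K → ℂ := fun a x => χ (((a : Kˣ)⁻¹ : Kˣ) * x)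
  have hind : LinearIndependent ℂ fun a : sq => d (root a) v := by
    refine linearIndependent_of_chars f _ χa (fun a e => hv ?_) (fun a x => ?_) fun a b hab e => ?_
    · have hi : Function.Injective (d (root a)) := fun u w huw => by
        have := congrArg (Matrix.toLin' ((ρ (diagT (root a)))⁻¹ : GL (Fin 3) ℂ).1) huw
        simpa [d, ← Matrix.mulVec_mulVec, Matrix.mulVec_mulVec] using this
      exact hi (e.trans (map_zero _).symm)
    · have h := hd (root a) (((a : Kˣ)⁻¹ : Kˣ) * x)
      have ea : (root a : K) ^ 2 = ((a : Kˣ) : K) := by rw [← Units.val_pow_eq_pow_val, hroot]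
      rwa [← mul_assoc, ea, Units.mul_inv, one_mul] at h
    · have hc : (((a : Kˣ)⁻¹ : Kˣ) : K) - (((b : Kˣ)⁻¹ : Kˣ) : K) ≠ 0 :=
        sub_ne_zero.2 fun e' => hab (Subtype.ext (inv_injective (Units.ext e')))
      apply hχne
      have key : ∀ x, χ (((((a : Kˣ)⁻¹ : Kˣ) : K) - (((b : Kˣ)⁻¹ : Kˣ) : K)) * x) = 1 := fun x => by
        have h1 := hχadd (((((a : Kˣ)⁻¹ : Kˣ) : K) - (((b : Kˣ)⁻¹ : Kˣ) : K)) * x) ((((b : Kˣ)⁻¹ : Kˣ) : K) * x)
        rw [← add_mul, sub_add_cancel] at h1
        have h2 : χ ((((a : Kˣ)⁻¹ : Kˣ) : K) * x) = χ ((((b : Kˣ)⁻¹ : Kˣ) : K) * x) := congrFun e x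
        rw [h2] at h1
        have hne : χ ((((b : Kˣ)⁻¹ : Kˣ) : K) * x) ≠ 0 := fun h0 => by
          have h3 := hχadd ((((b : Kˣ)⁻¹ : Kˣ) : K) * x) (-((((b : Kˣ)⁻¹ : Kˣ) : K) * x))
          rw [add_neg_cancel, hχ0, h0, zero_mul] at h3
          exact one_ne_zero h3
        exact (mul_eq_right₀ hne).1 h1.symm
      have h1 := key (((((a : Kˣ)⁻¹ : Kˣ) : K) - (((b : Kˣ)⁻¹ : Kˣ) : K))⁻¹)
      rwa [mul_inv_cancel₀ hc] at h1
  have hle : sq.card ≤ 3 := by
    have := hind.fintype_card_le_finrank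
    simpa using this
  have hbig : Fintype.card Kˣ ≤ 2 * sq.card := by
    refine Finset.card_le_mul_card_image (s := Finset.univ) 2 fun a _ => ?_
    by_contra hlt
    push Not at hlt
    obtain ⟨x, y, z, hx, hy, hz, hxy, hxz, hyz⟩ := Finset.two_lt_card_iff.1 hlt
    simp only [Finset.mem_filter, Finset.mem_univ, true_and] at hx hy hz
    have two : ∀ u w : Kˣ, u ^ 2 = w ^ 2 → u = w ∨ u = -w := fun u w h => by
      have h' := congrArg Units.val h
      push_cast at h'
      rcases sq_eq_sq_iff_eq_or_eq_neg.1 h' with e | e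
      exacts [Or.inl (Units.ext e), Or.inr (Units.ext (by rw [Units.val_neg]; exact e))]
    rcases two x y (hx.trans hy.symm) with e | e
    · exact hxy e
    rcases two x z (hx.trans hz.symm) with e' | e'
    · exact hxz e'
    exact hyz (neg_injective (e.symm.trans e'))
  rw [Fintype.card_units] at hbig
  omega

theorem no_abelian_image {H A : Type*} [Group H] [Group A] [IsSimpleGroup H] (hna : ¬ IsMulCommutative H)
    (hA : ∀ a b : A, a * b = b * a) (f : H →* A) {x : H} (hx : f x ≠ 1) : False := by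
  rcases f.normal_ker.eq_bot_or_eq_top with h | h
  · exact hna ⟨⟨fun a b => (MonoidHom.ker_eq_bot_iff f).1 h (by rw [map_mul, map_mul, hA])⟩⟩
  · exact hx (MonoidHom.mem_ker.1 (h ▸ Subgroup.mem_top x))

/-- The sign of an element of a dihedral group. -/
def dihSign (n : ℕ) : DihedralGroup n →* ℤˣ :=
  MonoidHom.mk' (fun | .r _ => 1 | .sr _ => -1) fun a b => by cases a <;> cases b <;> simp

/-- A simple subgroup whose order is divisible by the odd characteristic, with a faithful complex representation. -/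
theorem simple_sub_psl [Fintype K] (r : ℕ) [Fact r.Prime] [CharP K r] (h5 : 5 ≤ r)
    (H : Subgroup (ProjectiveSpecialLinearGroup (Fin 2) K)) [IsSimpleGroup H] (hna : ¬ IsMulCommutative H)
    (hr : r ∣ Nat.card H) (ρ : H →* GL (Fin 3) ℂ) (hρ : Function.Injective ρ) :
    Nat.card H = 60 ∨ Nat.card H = 168 := by
  classical
  have hrp : r.Prime := Fact.out
  have small : Nat.card H = 12 ∨ Nat.card H = 24 → False := fun h => by
    have := SmallOrder.card_of_lt_6000 hna (by omega)
    simp only [List.mem_cons, List.not_mem_nil, or_false] at this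
    omega
  rcases S0799.result (F := K) rfl r H with ⟨k, -, ⟨hc, -⟩ | ⟨⟨e⟩⟩⟩ | ⟨P, T, hT, ⟨e⟩⟩ | ⟨⟨e⟩⟩ | ⟨⟨e⟩⟩ | ⟨⟨e⟩⟩ |
      ⟨L, iL, iLf, m, hm, hL⟩
  · exact absurd (hc.isMulCommutative) hna
  · exact (no_abelian_image hna mul_comm ((dihSign k).comp e.toMonoidHom) (x := e.symm (.sr 0))
      (by simp [dihSign])).elim
  · exfalso
    haveI : IsSimpleGroup T := e.symm.isSimpleGroup
    have hTna : ¬ IsMulCommutative T := fun h => hna ⟨⟨fun a b => e.injective (by
      rw [map_mul, map_mul]; exact h.is_comm.comm _ _)⟩⟩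
    rw [Nat.card_congr e.toEquiv] at hr
    obtain ⟨x, hx⟩ := exists_prime_orderOf_dvd_card' r hr
    have hxP : (x : ProjectiveSpecialLinearGroup (Fin 2) K) ∈ (P : Subgroup _) := by
      have hz : IsPGroup r (Subgroup.zpowers (x : ProjectiveSpecialLinearGroup (Fin 2) K)) :=
        IsPGroup.of_card (n := 1) (by rw [Nat.card_zpowers, Subgroup.orderOf_coe, hx, pow_one])
      have hle : Subgroup.zpowers (x : ProjectiveSpecialLinearGroup (Fin 2) K) ≤
          Subgroup.normalizer ((P : Subgroup (ProjectiveSpecialLinearGroup (Fin 2) K)) :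
            Set (ProjectiveSpecialLinearGroup (Fin 2) K)) := Subgroup.zpowers_le.2 (hT x.2)
      have := P.3 (hz.to_sup_of_normal_right' P.2 hle) le_sup_right
      exact this ▸ Subgroup.mem_sup_left (Subgroup.mem_zpowers _)
    have hnorm : ((P : Subgroup (ProjectiveSpecialLinearGroup (Fin 2) K)).subgroupOf T).Normal :=
      Subgroup.normal_subgroupOf_of_le_normalizer hT
    rcases hnorm.eq_bot_or_eq_top with h | h
    · have hx1 : x = 1 := Subgroup.mem_bot.1 (h ▸ (Subgroup.mem_subgroupOf.2 hxP : x ∈ _))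
      rw [hx1, orderOf_one] at hx
      exact hrp.ne_one hx.symm
    · have hTP : IsPGroup r T := P.2.to_le fun y hy =>
        (h ▸ Subgroup.mem_top (⟨y, hy⟩ : T) : (⟨y, hy⟩ : T) ∈ (P : Subgroup _).subgroupOf T)
      haveI : Group.IsNilpotent T := hTP.isNilpotent
      exact hTna (IsSimpleGroup.comm_iff_isSolvable.2 inferInstance |> fun hc => ⟨⟨hc⟩⟩)
  · exfalso
    refine small (Or.inl ?_)
    rw [Nat.card_congr e.toEquiv, nat_card_alternatingGroup, Nat.card_eq_fintype_card, Fintype.card_fin]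
    rfl
  · exfalso
    refine small (Or.inr ?_)
    rw [Nat.card_congr e.toEquiv, Nat.card_eq_fintype_card, Fintype.card_perm, Fintype.card_fin]
    rfl
  · refine Or.inl ?_
    rw [Nat.card_congr e.toEquiv, nat_card_alternatingGroup, Nat.card_eq_fintype_card, Fintype.card_fin]
    rfl
  obtain ⟨c, hc⟩ := CharP.exists L
  obtain ⟨n, hcp, hn⟩ := FiniteField.card L c
  obtain ⟨n', -, hn'⟩ := FiniteField.card K r
  obtain rfl : c = r := by
    have h : c ∣ r ^ (n' : ℕ) := by
      rw [← hn', ← hm, hn, ← pow_mul]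
      refine dvd_pow_self c (mul_ne_zero n.pos.ne' fun e => ?_)
      subst e
      rw [pow_zero] at hm
      exact absurd hm (Fintype.one_lt_card (α := K)).ne
    exact (Nat.prime_dvd_prime_iff_eq hcp hrp).1 (hcp.dvd_of_dvd_pow h)
  have h2 : (2 : L) ≠ 0 := Ring.two_ne_zero (by rw [ringChar.eq L c]; omega)
  rcases hL with ⟨⟨e⟩⟩ | ⟨⟨e⟩⟩
  · let ρ' := ρ.comp e.symm.toMonoidHom
    have hle := card_field_le ρ' (hρ.comp e.symm.injective)
    have hge : c ≤ Fintype.card L := hn ▸ Nat.le_self_pow n.pos.ne' c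
    have hq : Fintype.card L = 5 ∨ Fintype.card L = 7 := by
      have hsq : (n : ℕ) = 1 := by
        by_contra hne
        have h1 : c ^ 2 ≤ Fintype.card L := hn ▸ Nat.pow_le_pow_right (by omega) (by have := n.pos; omega)
        nlinarith
      rw [hsq, pow_one] at hn
      rw [hn] at hle ⊢
      interval_cases c
      · exact Or.inl rfl
      · exact absurd hcp (by norm_num)
      · exact Or.inr rfl
    have h1 := Classical.card_psl_mul (ι := Fin 2) (F := L)
    rw [Classical.card_sl2, Fintype.card_fin, ← Nat.card_congr e.toEquiv] at h1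
    rcases hq with h | h <;> rw [h] at h1
    · rw [show Nat.gcd 2 (5 - 1) = 2 from rfl, show 5 * (5 ^ 2 - 1) = 120 from rfl] at h1
      omega
    · rw [show Nat.gcd 2 (7 - 1) = 2 from rfl, show 7 * (7 ^ 2 - 1) = 336 from rfl] at h1
      omega
  · exfalso
    obtain ⟨α, hα⟩ := FiniteField.exists_nonsquare (F := L) (by rw [ringChar.eq L c]; omega)
    have hα0 : α ≠ 0 := fun h => hα (h ▸ IsSquare.zero)
    let q : GL (Fin 2) L →* Lˣ ⧸ (powMonoidHom 2 : Lˣ →* Lˣ).range :=
      (QuotientGroup.mk' _).comp Matrix.GeneralLinearGroup.det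
    have hq : Subgroup.center (GL (Fin 2) L) ≤ q.ker := fun g hg => by
      rw [Matrix.GeneralLinearGroup.center_eq_range_scalar] at hg
      obtain ⟨u, rfl⟩ := hg
      refine (QuotientGroup.eq_one_iff _).2 ⟨u, Units.ext ?_⟩
      simp [Matrix.GeneralLinearGroup.scalar]
    let q' : (GL (Fin 2) L ⧸ Subgroup.center (GL (Fin 2) L)) →* Lˣ ⧸ (powMonoidHom 2 : Lˣ →* Lˣ).range :=
      QuotientGroup.lift _ q hq
    let e' : H ≃* (GL (Fin 2) L ⧸ Subgroup.center (GL (Fin 2) L)) := e
    let g : GL (Fin 2) L := Matrix.GeneralLinearGroup.mkOfDetNeZero !![α, 0; 0, 1]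
      (by simpa [Matrix.det_fin_two] using hα0)
    refine no_abelian_image hna (mul_comm (G := Lˣ ⧸ (powMonoidHom 2 : Lˣ →* Lˣ).range)) (q'.comp e'.toMonoidHom) (x := e'.symm (QuotientGroup.mk g)) ?_
    rw [MonoidHom.comp_apply, MulEquiv.coe_toMonoidHom, MulEquiv.apply_symm_apply, QuotientGroup.lift_mk]
    intro h
    obtain ⟨w, hw⟩ := (QuotientGroup.eq_one_iff _).1 h
    refine hα ⟨w, ?_⟩
    have := congrArg Units.val hw
    simpa [g, Matrix.det_fin_two, pow_two, Matrix.GeneralLinearGroup.mkOfDetNeZero] using this.symm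

end Lift

end Cfsg.Agent.ResidualThree
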