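import Cfsg.Agent.ResidualThree.Lift.Reduce
import Cfsg.Agent.ResidualThree.Lift.SmallPSL
import Cfsg.Agent.ResidualThree.TvCase
import Cfsg.Agent.ResidualThree.Regular.Main
import Cfsg.Agent.Classical.ExcSmall
import Cfsg.Agent.S0144

/-!
Core groups of order prime to the characteristic have simple quotient of order 60, 168 or 360.
-/

set_option autoImplicit false
set_option linter.style.haveILetI false

namespace Cfsg.Agent.ResidualThree

open Matrix Cfsg.Geo Cfsg.Agent.PrimeDim
open scoped MatrixGroups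

namespace Lift

/-- An invertible matrix as a linear automorphism. -/
def linEquivHom (F : Type*) [Field F] : GL (Fin 3) F →* ((Fin 3 → F) ≃ₗ[F] (Fin 3 → F)) :=
  (LinearMap.GeneralLinearGroup.generalLinearEquiv F (Fin 3 → F)).toMonoidHom.comp
    (Matrix.GeneralLinearGroup.toLin (n := Fin 3) (R := F)).toMonoidHom

theorem linEquivHom_apply {F : Type*} [Field F] (g : GL (Fin 3) F) (x : Fin 3 → F) :
    linEquivHom F g x = mat g *ᵥ x := rfl

end Lift

open Classical.Quad QuadraticMap in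
/-- A simple group fixing a symmetric form embeds in a two-dimensional projective group. -/
theorem Core.exists_psl_embedding {k : Type*} [Field k] [Fintype k] {Q : Subgroup (GL (Fin 3) k)} (hQ : Core Q)
    (h2 : (2 : k) ≠ 0) {G : Matrix (Fin 3) (Fin 3) k} (hG : G.det ≠ 0) (hsym : Gᵀ = G)
    (hfix : Fixes (RingEquiv.refl k) Q G) :
    IsSimpleGroup Q ∧ ¬ IsMulCommutative Q ∧
      ∃ φ : Q →* ProjectiveSpecialLinearGroup (Fin 2) k, Function.Injective φ := by
  classical
  have hG' : ∀ g ∈ Q, (mat g)ᵀ * G * mat g = G := fun g hg => by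
    simpa [act] using hfix g hg
  -- no scalars
  have hs1 : ∀ g ∈ Q, g ∈ scalars (Fin 3) k → g = 1 := fun g hg hs => by
    obtain ⟨u, hu⟩ := (mem_scalars_iff g).1 hs
    obtain ⟨c, hc⟩ : ∃ c : k, mat g = c • (1 : Matrix (Fin 3) (Fin 3) k) := ⟨_, hu⟩
    have hc3 := hQ.scalar_cube hg hc
    have hc2 : c ^ 2 = 1 := by
      have e := hG' g hg
      rw [hc, Matrix.transpose_smul, Matrix.transpose_one,
        Matrix.smul_mul, one_mul, Matrix.mul_smul, mul_one, smul_smul] at e
      by_contra hne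
      apply hG
      have h0 : (c ^ 2 - 1) • G = 0 := by rw [sub_smul, one_smul, pow_two, e, sub_self]
      rw [(smul_eq_zero.1 h0).resolve_left (sub_ne_zero.2 hne)]
      exact Matrix.det_zero
    have hc1 : c = 1 := by
      have e : c ^ 3 = c * c ^ 2 := by ring
      rw [hc2, mul_one] at e
      exact e.symm.trans hc3
    exact Units.ext (show mat g = _ by rw [hc, hc1, one_smul, Units.val_one])
  have hbot : (scalars (Fin 3) k).subgroupOf Q = ⊥ :=
    (Subgroup.eq_bot_iff_forall _).2 fun g hg => Subtype.ext (hs1 g g.2 hg)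
  let e : Q ⧸ (scalars (Fin 3) k).subgroupOf Q ≃* Q :=
    (QuotientGroup.quotientMulEquivOfEq hbot).trans QuotientGroup.quotientBot
  haveI hsimple : IsSimpleGroup Q := by
    haveI := hQ.simple
    haveI : Nontrivial Q := e.symm.toEquiv.nontrivial
    exact e.symm.isSimpleGroup
  refine ⟨hsimple, fun h => hQ.not_comm h.is_comm.comm, ?_⟩
  -- the quadratic form
  let Qf : QuadraticForm k (Fin 3 → k) := LinearMap.BilinMap.toQuadraticMap (Matrix.toLinearMap₂' k G)
  have hQf : ∀ x, Qf x = x ⬝ᵥ G *ᵥ x := fun x =>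
    (LinearMap.BilinMap.toQuadraticMap_apply _ x).trans (Matrix.toLinearMap₂'_apply' G x x)
  have hpol : ∀ x y, polar Qf x y = 2 * (x ⬝ᵥ G *ᵥ y) := fun x y => by
    have hs : y ⬝ᵥ G *ᵥ x = x ⬝ᵥ G *ᵥ y := by
      rw [Matrix.dotProduct_mulVec, ← Matrix.mulVec_transpose, hsym, dotProduct_comm]
    simp only [polar, hQf, Matrix.mulVec_add, dotProduct_add, add_dotProduct, hs]
    ring
  have hnd : (polarBilin Qf).Nondegenerate := nondeg_of fun x hx => by
    by_contra hne
    apply hG
    refine Matrix.exists_vecMul_eq_zero_iff.1 ⟨x, hne, funext fun i => ?_⟩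
    have h := hx (Pi.single i 1)
    rw [hpol, mul_eq_zero, Matrix.dotProduct_mulVec, dotProduct_single, mul_one] at h
    exact h.resolve_left h2
  obtain ⟨c, hc, -, e0, he0⟩ := odd_case hnd (m := 1) (by simp)
  let sc : (((Fin 1 → k) × (Fin 1 → k)) × k) ≃ₗ[k] (((Fin 1 → k) × (Fin 1 → k)) × k) :=
    ((LinearEquiv.smulOfUnit (Units.mk0 c hc)).prodCongr (LinearEquiv.refl k _)).prodCongr (LinearEquiv.refl k _)
  let E := sc.trans e0
  have hE : ∀ v, Qf (E v) = c * hyp (sqForm k) 1 v := fun v => by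
    rw [show E v = e0 (sc v) from rfl, he0, hyp_apply, hyp_apply]
    simp [sc, sqForm, LinearEquiv.smulOfUnit, DistribMulAction.toLinearEquiv, Units.smul_def]
    ring
  let ψ : Q →* oG (hyp (sqForm k) 1) := MonoidHom.mk'
    (fun g => ⟨E.trans ((Lift.linEquivHom k g).trans E.symm), fun v => by
      refine mul_left_cancel₀ hc ?_
      rw [← hE, ← hE]
      show Qf (E (E.symm (Lift.linEquivHom k g (E v)))) = Qf (E v)
      rw [E.apply_symm_apply, hQf, hQf,
        Lift.linEquivHom_apply, Matrix.mulVec_mulVec, ← Matrix.vecMul_transpose, ← Matrix.dotProduct_mulVec,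
        Matrix.mulVec_mulVec, ← mul_assoc, hG' g g.2]⟩)
    fun g h => Subtype.ext (LinearEquiv.ext fun v => by
      simp [LinearEquiv.mul_apply, map_mul])
  have hψ : Function.Injective ψ := fun g h he => by
    refine Subtype.ext (Units.ext (Matrix.ext_of_mulVec_single fun i => ?_))
    have h1 := congrArg (fun u : oG (hyp (sqForm k) 1) => E (u.1 (E.symm (Pi.single i 1)))) he
    simpa [ψ, Lift.linEquivHom_apply] using h1
  have hperf : commutator Q = ⊤ := by
    refine Subgroup.map_injective Q.subtype_injective ?_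
    rw [commutator_def, Subgroup.map_commutator, ← MonoidHom.range_eq_map, Q.range_subtype, hQ.perfect]
  let ψ' : Q →* (commutator (oG (hyp (sqForm k) 1)) : Subgroup _) :=
    ψ.codRestrict _ fun g => Classical.Exc.range_le_of_perfect ψ hperf ⟨g, rfl⟩
  let π := (QuotientGroup.mk' (Subgroup.center (commutator (oG (hyp (sqForm k) 1)) : Subgroup _))).comp ψ'
  have hπ : Function.Injective π := by
    rw [← MonoidHom.ker_eq_bot_iff]
    refine π.normal_ker.eq_bot_or_eq_top.resolve_right fun h => hQ.not_comm fun x y => hψ ?_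
    have hx : ψ' x ∈ Subgroup.center (commutator (oG (hyp (sqForm k) 1)) : Subgroup _) :=
      (QuotientGroup.eq_one_iff _).1 (MonoidHom.mem_ker.1 (h ▸ Subgroup.mem_top x : x ∈ π.ker))
    rw [map_mul, map_mul]
    exact congrArg Subtype.val (Subgroup.mem_center_iff.1 hx (ψ' y)).symm
  obtain ⟨e1⟩ := Classical.Exc.pomega_equiv (Q := hyp (sqForm k) 1) (Q' := Cfsg.quadFormOdd 1 k) (oddCoord 1) (oddCoord_map 1)
  have hodd : Odd (Fintype.card k) := Nat.not_even_iff_odd.1 fun h => h2 (by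
    rw [← FiniteField.even_card_iff_char_two.2 (Nat.even_iff.1 h) |> fun e => (ringChar.eq_iff.1 e).cast_eq_zero k 2]
    norm_num)
  obtain ⟨e2⟩ := Classical.Exc.pomega_three (F := k) hodd
  exact ⟨(e1.symm.trans e2).toMonoidHom.comp π, (e1.symm.trans e2).injective.comp hπ⟩

variable {F : Type*} [Field F] [Finite F] {P : Subgroup (GL (Fin 3) F)}

omit [Finite F] in
/-- Isomorphic core groups have isomorphic quotients. -/
theorem Core.card_quot_eq (hP : Core P) {k : Type*} [Field k] {Q : Subgroup (GL (Fin 3) k)} (hQ : Core Q)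
    (e : P ≃* Q) : Nat.card (P ⧸ (scalars (Fin 3) F).subgroupOf P) =
      Nat.card (Q ⧸ (scalars (Fin 3) k).subgroupOf Q) := by
  have h : ((scalars (Fin 3) F).subgroupOf P).map (e : P →* Q) = (scalars (Fin 3) k).subgroupOf Q := by
    rw [← hP.center_eq, ← hQ.center_eq]
    exact Classical.Exc.center_map_eq e
  exact Nat.card_congr (QuotientGroup.congr _ _ e h).toEquiv

/-- The largest prime divisor of the order is at least five. -/
theorem Core.exists_large_prime (hP : Core P) :
    ∃ r : ℕ, r.Prime ∧ 5 ≤ r ∧ r ∣ Nat.card P ∧ ∀ q : ℕ, q.Prime → q ∣ Nat.card P → q ≤ r := by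
  haveI : Finite P := Finite.of_injective (fun g : P => mat (g : GL (Fin 3) F)) fun a b e =>
    Subtype.ext (Units.ext e)
  have hn : Nat.card P ≠ 0 := Nat.card_pos.ne'
  have key : ∃ q : ℕ, q.Prime ∧ q ∣ Nat.card P ∧ 5 ≤ q := by
    by_contra hcon
    push Not at hcon
    refine hP.not_solvable (S0144.result 2 3 ((Nat.card P).factorization 2) ((Nat.card P).factorization 3)
      Nat.prime_two Nat.prime_three (Nat.eq_of_factorization_eq hn (by positivity) fun q => ?_))
    rw [Nat.factorization_mul (by positivity) (by positivity), Nat.prime_two.factorization_pow,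
      Nat.prime_three.factorization_pow, Finsupp.add_apply, Finsupp.single_apply, Finsupp.single_apply]
    by_cases hq : q.Prime ∧ q ∣ Nat.card P
    · have h5 := hcon q hq.1 hq.2
      have h2 := hq.1.two_le
      have h4 : q ≠ 4 := fun e => absurd (e ▸ hq.1) (by norm_num)
      interval_cases q <;> simp_all
    · have h0 : (Nat.card P).factorization q = 0 := by
        rw [Nat.factorization_eq_zero_iff]
        tauto
      rw [h0]
      split_ifs with e e' e' <;> subst_vars <;> simp_all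
  obtain ⟨q, hq, hqd, hq5⟩ := key
  have hne : (Nat.card P).primeFactors.Nonempty := ⟨q, hq.mem_primeFactors hqd hn⟩
  have hr := Finset.max'_mem _ hne
  refine ⟨_, Nat.prime_of_mem_primeFactors hr,
    hq5.trans (Finset.le_max' _ _ (hq.mem_primeFactors hqd hn)), Nat.dvd_of_mem_primeFactors hr,
    fun t ht htd => Finset.le_max' _ _ (ht.mem_primeFactors htd hn)⟩

/-- A model over a field which is least possible. -/
theorem Core.exists_minimal_model {k : Type} [Field k] [Finite k] (h2 : (2 : k) ≠ 0) {Q : Subgroup (GL (Fin 3) k)}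
    (hQ : Core Q) : ∃ (F₀ : Subfield k) (Q₀ : Subgroup (GL (Fin 3) F₀)), Core Q₀ ∧ Nonempty (Q ≃* Q₀) ∧
      ∀ F₁ : Subfield F₀, F₁ ≠ ⊤ → ¬ RealisableOver F₁ (matrixSet Q₀) := by
  classical
  have hex : ∃ n : ℕ, ∃ F₀ : Subfield k, Nat.card F₀ = n ∧ RealisableOver F₀ (matrixSet Q) :=
    ⟨_, ⊤, rfl, 1, fun _ _ _ _ => Subfield.mem_top _⟩
  obtain ⟨F₀, hcard, hreal⟩ := Nat.find_spec hex
  obtain ⟨B, hB⟩ := realisable_mat.1 hreal
  let M : Q → Matrix (Fin 3) (Fin 3) F₀ := fun g => Matrix.of fun i j => ⟨_, hB g g.2 i j⟩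
  have hM : ∀ g : Q, (M g).map F₀.subtype = mat (B * (g : GL (Fin 3) k) * B⁻¹) := fun g => rfl
  have hMd : ∀ g, (M g).det ≠ 0 := fun g h => by
    have h1 := (F₀.subtype).map_det (M g)
    rw [h, map_zero, RingHom.mapMatrix_apply, hM] at h1
    exact det_mat_ne_zero _ h1.symm
  let u : Q → GL (Fin 3) F₀ := fun g => Matrix.GeneralLinearGroup.mkOfDetNeZero (M g) (hMd g)
  have hu : ∀ g : Q, Matrix.GeneralLinearGroup.map F₀.subtype (u g) = B * (g : GL (Fin 3) k) * B⁻¹ := fun g => Units.ext (hM g)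
  have hinjm := Lift.GL_map_injective (ι := Fin 3) F₀.subtype F₀.subtype_injective
  let ψ : Q →* GL (Fin 3) F₀ := MonoidHom.mk' u fun g h => hinjm (by
    rw [map_mul, hu, hu, hu, Subgroup.coe_mul]
    group)
  have hψ : Function.Injective ψ := fun g h he => Subtype.ext (by
    have := congrArg (Matrix.GeneralLinearGroup.map F₀.subtype) he
    rwa [show ψ g = u g from rfl, show ψ h = u h from rfl, hu, hu, mul_left_inj, mul_right_inj] at this)
  have h2' : (2 : F₀) ≠ 0 := fun e => h2 (by rw [← map_ofNat F₀.subtype 2, e, map_zero])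
  refine ⟨F₀, ψ.range, hQ.of_equiv (MonoidHom.ofInjective hψ) (hQ.abs_of_injective h2' ψ hψ),
    ⟨MonoidHom.ofInjective hψ⟩, fun F₁ hne hF₁ => ?_⟩
  obtain ⟨C, hC⟩ := realisable_mat.1 hF₁
  have hlt : Nat.card (F₁.map F₀.subtype) < Nat.card F₀ := by
    refine lt_of_le_of_ne (Nat.card_le_card_of_injective (fun x : F₁.map F₀.subtype => (⟨x.1, by
      obtain ⟨y, -, hy⟩ := Subfield.mem_map.1 x.2
      exact hy ▸ y.2⟩ : F₀)) fun x y he => Subtype.ext (congrArg (fun z : F₀ => (z : k)) he)) fun he => hne ?_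
    refine eq_top_iff.2 fun y _ => ?_
    by_contra hy
    have hcr : Nat.card F₁ = Nat.card F₀ := by
      rw [← he]
      exact Nat.card_congr (Equiv.Set.image _ (F₁ : Set F₀) F₀.subtype_injective)
    have hb := (Nat.bijective_iff_injective_and_card (fun x : F₁ => (x : F₀))).2 ⟨Subtype.val_injective, hcr⟩
    obtain ⟨x, hx⟩ := hb.2 y
    exact hy (hx ▸ x.2)
  refine (Nat.find_min' hex ⟨F₁.map F₀.subtype, rfl, realisable_mat.2
    ⟨Matrix.GeneralLinearGroup.map F₀.subtype C * B, fun g hg i j => ?_⟩⟩).not_gt (hcard ▸ hlt)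
  have h1 := hC (ψ ⟨g, hg⟩) ⟨_, rfl⟩ i j
  have e : Matrix.GeneralLinearGroup.map F₀.subtype C * B * g * (Matrix.GeneralLinearGroup.map F₀.subtype C * B)⁻¹ =
      Matrix.GeneralLinearGroup.map F₀.subtype (C * ψ ⟨g, hg⟩ * C⁻¹) := by
    rw [map_mul, map_mul, map_inv, show ψ ⟨g, hg⟩ = u ⟨g, hg⟩ from rfl, hu]
    group
  rw [e]
  exact Subfield.mem_map.2 ⟨_, h1, rfl⟩

/-- A core group of order prime to the characteristic. -/
theorem Core.coprime_cases (hP : Core P) (p : ℕ) [Fact p.Prime] [CharP F p] (hp : ¬ p ∣ Nat.card P) :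
    Nat.card (P ⧸ (scalars (Fin 3) F).subgroupOf P) = 60 ∨
      Nat.card (P ⧸ (scalars (Fin 3) F).subgroupOf P) = 168 ∨
      Nat.card (P ⧸ (scalars (Fin 3) F).subgroupOf P) = 360 := by
  classical
  obtain ⟨r, hr, h5, hrd, hmax⟩ := hP.exists_large_prime
  haveI := Fact.mk hr
  obtain ⟨k, hk, hkf, hkc, Q, hQ, ⟨e⟩, habel⟩ := hP.exists_reduction p hp r hrd h5
  have h2k : (2 : k) ≠ 0 := fun e2 => by
    have h : r ∣ 2 := (CharP.cast_eq_zero_iff k r 2).1 (by exact_mod_cast e2)
    have := Nat.le_of_dvd (by norm_num) h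
    omega
  obtain ⟨F₀, Q₀, hQ₀, ⟨e₀⟩, hmin⟩ := Core.exists_minimal_model h2k hQ
  haveI : CharP F₀ r := (RingHom.charP_iff F₀.subtype F₀.subtype_injective r).2 hkc
  let E := e.trans e₀
  rw [hP.card_quot_eq hQ₀ E]
  have hno : ¬ HasNonab Q₀ r := by
    rintro ⟨g, hg, h, hh, hne, hcl⟩
    refine hne ?_
    let R : Subgroup Q := (((Subgroup.closure ({g, h} : Set _)).subgroupOf Q₀).comap e₀.toMonoidHom)
    have hR : IsPGroup r R := (hcl.comap_of_injective _ Q₀.subtype_injective).comap_of_injective _ e₀.injective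
    obtain ⟨x, hx⟩ := e₀.surjective ⟨g, hg⟩
    obtain ⟨y, hy⟩ := e₀.surjective ⟨h, hh⟩
    have hxR : x ∈ R := by
      show ((e₀ x : Q₀) : GL (Fin 3) F₀) ∈ Subgroup.closure _
      rw [hx]; exact Subgroup.subset_closure (by simp)
    have hyR : y ∈ R := by
      show ((e₀ y : Q₀) : GL (Fin 3) F₀) ∈ Subgroup.closure _
      rw [hy]; exact Subgroup.subset_closure (by simp)
    have h1 := congrArg Subtype.val ((habel R hR).is_comm.comm ⟨x, hxR⟩ ⟨y, hyR⟩)
    have h2 := congrArg e₀ h1
    simp only [Subgroup.coe_mul, map_mul, hx, hy] at h2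
    exact congrArg Subtype.val h2
  have h2₀ : (2 : F₀) ≠ 0 := fun e => h2k (by rw [← map_ofNat F₀.subtype 2, e, map_zero])
  by_cases hX : ∃ X, IsTv Q₀ X
  · exfalso
    obtain ⟨X, hX⟩ := hX
    rcases hQ₀.tv_cases hmin r hX with ⟨-, h⟩ | ⟨σ, G, -, -, -, -, -, -, h⟩ | ⟨-, h⟩
    · exact hno (h h2₀)
    · exact hno h
    · haveI := Fintype.ofFinite F₀
      obtain ⟨n, -, hn⟩ := FiniteField.card F₀ r
      rw [Nat.card_eq_fintype_card, hn] at h
      have := Nat.le_self_pow n.pos.ne' r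
      omega
  push Not at hX
  have hcardE : Nat.card Q₀ = Nat.card P := Nat.card_congr E.toEquiv.symm
  rcases hQ₀.regular_cases hmin hX r (by omega) (hcardE ▸ hrd) with ⟨G, hG, hsym, hfix⟩ | ⟨h3, -⟩ |
      ⟨hr5, -, -, hdvd⟩
  · haveI := Fintype.ofFinite F₀
    obtain ⟨hsimple, hna, φ, hφ⟩ := hQ₀.exists_psl_embedding h2₀ hG hsym hfix
    obtain ⟨ρ, hρ⟩ := Lift.exists_complex P p hp
    let f := MonoidHom.ofInjective hφ
    haveI : IsSimpleGroup φ.range := f.symm.isSimpleGroup
    have hbot : (scalars (Fin 3) F₀).subgroupOf Q₀ = ⊥ := by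
      refine ((Subgroup.Normal.subgroupOf (by infer_instance) _).eq_bot_or_eq_top).resolve_right fun h => ?_
      exact hQ₀.not_scalar fun g hg => (h ▸ Subgroup.mem_top (⟨g, hg⟩ : Q₀) :
        (⟨g, hg⟩ : Q₀) ∈ (scalars (Fin 3) F₀).subgroupOf Q₀)
    have hc : Nat.card (Q₀ ⧸ (scalars (Fin 3) F₀).subgroupOf Q₀) = Nat.card φ.range :=
      Nat.card_congr (((QuotientGroup.quotientMulEquivOfEq hbot).trans QuotientGroup.quotientBot).trans f).toEquiv
    rw [hc]
    rcases Lift.simple_sub_psl r h5 φ.range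
        (fun h => hna ⟨⟨fun a b => f.injective (by rw [map_mul, map_mul]; exact h.is_comm.comm _ _)⟩⟩)
        (by rw [← Nat.card_congr f.toEquiv, hcardE]; exact hrd)
        (ρ.comp (E.trans f).symm.toMonoidHom) (hρ.comp (E.trans f).symm.injective) with h | h
    exacts [Or.inl h, Or.inr (Or.inl h)]
  · omega
  · haveI := hQ₀.simple
    set n := Nat.card (Q₀ ⧸ (scalars (Fin 3) F₀).subgroupOf Q₀) with hndef
    have h7 : ¬ 7 ∣ n := fun h => by
      have := hmax 7 (by norm_num) (hcardE ▸ h.trans ((scalars (Fin 3) F₀).subgroupOf Q₀).card_quotient_dvd_card)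
      omega
    have h720 : n ∣ 720 :=
      (((Nat.Prime.coprime_iff_not_dvd (by norm_num)).2 h7).symm).dvd_of_dvd_mul_left
        (show n ∣ 7 * 720 from hdvd)
    have hle := Nat.le_of_dvd (by norm_num) h720
    have hlist := SmallOrder.card_of_lt_6000 hQ₀.nonab (show n < 6000 by omega)
    rw [← hndef] at hlist
    simp only [List.mem_cons, List.not_mem_nil, or_false] at hlist
    rcases hlist with h | h | h | h | h | h | h | h | h | h | h <;> rw [h] at h720 ⊢
    all_goals first
      | exact Or.inl rfl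
      | exact Or.inr (Or.inr rfl)
      | exact absurd h720 (by norm_num)

end Cfsg.Agent.ResidualThree
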