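import Cfsg.Agent.PrimeSpherical.Lattice
import Mathlib.RingTheory.Jacobson.Ring

/-!
# Reducing an integral complex matrix group to a finite field
-/

set_option autoImplicit false

namespace Cfsg.Agent.ResidualThree.Lift

open Matrix
open scoped MatrixGroups

variable {Γ : Type*} [Group Γ] [Finite Γ]

/-- A complex matrix group reduces to a finite field of characteristic `r`, with a kernel made of
elements whose order is divisible by `r` unless trivial. -/
theorem exists_reduction_hom {d : ℕ} (ρ : Γ →* GL (Fin d) ℂ) (hρ : Function.Injective ρ) (r : ℕ)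
    [Fact r.Prime] :
    ∃ (k : Type) (_ : Field k) (_ : Finite k) (_ : CharP k r) (ψ : Γ →* GL (Fin d) k),
      ∀ g, ψ g = 1 → ¬ r ∣ orderOf g → g = 1 := by
  classical
  have hr : r.Prime := Fact.out
  obtain ⟨V, hV⟩ := PrimeSpherical.exists_place hr
  let σ : Representation ℂ Γ (Fin d → ℂ) :=
    (Matrix.toLinAlgEquiv' (R := ℂ) (n := Fin d)).toMonoidHom.comp ((Units.coeHom _).comp ρ)
  obtain ⟨A, B, hAV, hB, hA, -⟩ := PrimeSpherical.exists_integral_matrix V σ
  have hAinj : Function.Injective A := fun g g' h => hρ (Units.ext (by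
    have h1 := congrArg (fun M => B * M * B⁻¹) h
    simp only [hA, ← Matrix.mul_assoc, Matrix.mul_nonsing_inv B hB, Matrix.one_mul] at h1
    simp only [Matrix.mul_assoc, Matrix.mul_nonsing_inv B hB, Matrix.mul_one] at h1
    have h2 : σ g = σ g' := LinearMap.toMatrix'.injective (by simpa using h1)
    exact Matrix.toLinAlgEquiv'.injective h2))
  let S : Set ℂ := Set.range fun q : Γ × Fin d × Fin d => A q.1 q.2.1 q.2.2
  let R₀ : Subalgebra ℤ ℂ := Algebra.adjoin ℤ S
  haveI : Algebra.FiniteType ℤ R₀ :=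
    (Subalgebra.fg_iff_finiteType R₀).1 (Subalgebra.fg_def.2 ⟨S, Set.finite_range _, rfl⟩)
  have hR₀ : R₀ ≤ subalgebraOfSubring V.toSubring := Algebra.adjoin_le (by
    rintro _ ⟨q, rfl⟩; exact hAV _ _ _)
  let I : Ideal R₀ := Ideal.span {(r : R₀)}
  have hI : I ≠ ⊤ := fun h => by
    rw [Ideal.span_singleton_eq_top] at h
    obtain ⟨y, hy⟩ := h.exists_left_inv
    have h1 : (y : ℂ) * (r : ℂ) = 1 := by simpa using congrArg Subtype.val hy
    exact PrimeSpherical.one_notMem_nonunits (V := V) (h1 ▸ PrimeSpherical.mul_mem_nonunits (hR₀ y.2) hV)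
  obtain ⟨m, hm, hIm⟩ := Ideal.exists_le_maximal I hI
  letI : Field (R₀ ⧸ m) := Ideal.Quotient.field m
  let π : R₀ →+* R₀ ⧸ m := Ideal.Quotient.mk m
  have hr0 : (r : R₀ ⧸ m) = 0 := by
    rw [← map_natCast π, Ideal.Quotient.eq_zero_iff_mem]
    exact hIm (Ideal.mem_span_singleton_self _)
  haveI : CharP (R₀ ⧸ m) r := (CharP.charP_iff_prime_eq_zero hr).2 hr0
  haveI : Algebra.FiniteType ℤ (R₀ ⧸ m) :=
    Algebra.FiniteType.of_surjective (Ideal.Quotient.mkₐ ℤ m) (Ideal.Quotient.mkₐ_surjective ℤ m)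
  letI : Algebra (ZMod r) (R₀ ⧸ m) := ZMod.algebra _ r
  haveI : IsScalarTower ℤ (ZMod r) (R₀ ⧸ m) := IsScalarTower.of_algebraMap_eq' (RingHom.ext_int _ _)
  haveI : Algebra.FiniteType (ZMod r) (R₀ ⧸ m) := Algebra.FiniteType.of_restrictScalars_finiteType ℤ _ _
  haveI : Module.Finite (ZMod r) (R₀ ⧸ m) := finite_of_finite_type_of_isJacobsonRing (ZMod r) (R₀ ⧸ m)
  haveI : Finite (R₀ ⧸ m) := Module.finite_of_finite (ZMod r)
  have hmem : ∀ g i j, A g i j ∈ R₀ := fun g i j => Algebra.subset_adjoin ⟨(g, i, j), rfl⟩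
  let ι₀ : R₀ →+* ℂ := R₀.val.toRingHom
  have hι : Function.Injective ι₀ := Subtype.val_injective
  let A₀ : Γ → Matrix (Fin d) (Fin d) R₀ := fun g => Matrix.of fun i j => ⟨A g i j, hmem g i j⟩
  have hA₀ : ∀ g, (A₀ g).map ι₀ = A g := fun g => rfl
  let Ah : Γ →* Matrix (Fin d) (Fin d) R₀ :=
    { toFun := A₀
      map_one' := Matrix.map_injective hι (by beta_reduce; rw [hA₀, map_one, Matrix.map_one _ (map_zero _) (map_one _)])
      map_mul' := fun g g' => Matrix.map_injective hι (by beta_reduce; rw [hA₀, map_mul, Matrix.map_mul, hA₀, hA₀]) }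
  refine ⟨R₀ ⧸ m, inferInstance, inferInstance, inferInstance,
    (π.mapMatrix.toMonoidHom.comp Ah).toHomUnits, fun g hg hN => ?_⟩
  replace hg : π.mapMatrix (Ah g) = 1 := congrArg Units.val hg
  set N := orderOf g
  let T : Matrix (Fin d) (Fin d) R₀ := ∑ i ∈ Finset.range N, Ah g ^ i
  have hT : π.mapMatrix T = (N : Matrix (Fin d) (Fin d) (R₀ ⧸ m)) := by
    simp only [T, map_sum, map_pow, hg, one_pow, Finset.sum_const, Finset.card_range, nsmul_one]
  have hdet : T.det ≠ 0 := fun h0 => by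
    have h1 : (π.mapMatrix T).det = 0 := by rw [← RingHom.map_det, h0, map_zero]
    rw [hT, ← Matrix.diagonal_natCast, Matrix.det_diagonal, Finset.prod_const] at h1
    exact hN ((CharP.cast_eq_zero_iff _ r N).1 (eq_zero_of_pow_eq_zero h1))
  have hz : T * (Ah g - 1) = 0 := by
    rw [geom_sum_mul, ← map_pow, pow_orderOf_eq_one, map_one, sub_self]
  have hz2 : T.det • (Ah g - 1) = 0 := by
    rw [← Matrix.one_mul (Ah g - 1), ← Matrix.smul_mul, ← Matrix.adjugate_mul, Matrix.mul_assoc, hz,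
      Matrix.mul_zero]
  have hg1 : Ah g = 1 := sub_eq_zero.1 ((smul_eq_zero.1 hz2).resolve_left hdet)
  exact hAinj (by rw [← hA₀, show A₀ g = 1 from hg1, map_one, Matrix.map_one _ (map_zero _) (map_one _)])

end Cfsg.Agent.ResidualThree.Lift
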