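import Cfsg.Agent.ResidualThree.Transport
import Cfsg.Agent.S0205

/-!
# Representations of the groups in degree three over algebraically closed fields

The groups have no nontrivial two-dimensional representation in odd characteristic, so every
faithful three-dimensional one is irreducible.
-/

set_option autoImplicit false

namespace Cfsg.Agent.ResidualThree

open Matrix Cfsg.Geo Cfsg.Agent.PrimeDim
open scoped MatrixGroups commutatorElement

variable {F : Type*} [Field F] {P : Subgroup (GL (Fin 3) F)}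

/-- The central elements are the scalars. -/
theorem Core.mem_center_iff (h : Core P) (z : P) :
    z ∈ Subgroup.center P ↔ (z : GL (Fin 3) F) ∈ scalars (Fin 3) F := by
  rw [Subgroup.mem_center_iff]
  constructor
  · intro hz
    exact h.mem_scalars_of_comm fun g hg => (congrArg Subtype.val (hz ⟨g, hg⟩)).symm
  · intro hz g
    exact Subtype.ext (scalar_commute hz g.1).symm

theorem Core.center_eq (h : Core P) : Subgroup.center P = (scalars (Fin 3) F).subgroupOf P :=
  Subgroup.ext fun z => (h.mem_center_iff z).trans Subgroup.mem_subgroupOf.symm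

theorem Core.center_cube (h : Core P) {z : P} (hz : z ∈ Subgroup.center P) : z ^ 3 = 1 :=
  Subtype.ext (h.scalar_pow_three z.2 ((h.mem_center_iff z).1 hz))

theorem Core.not_comm (h : Core P) : ¬ ∀ a b : P, a * b = b * a := fun hc => by
  refine h.not_scalar fun g hg => (h.mem_center_iff ⟨g, hg⟩).1 ?_
  exact Subgroup.mem_center_iff.2 fun b => hc b _

theorem Core.not_solvable (h : Core P) : ¬ Group.IsSolvable P := by
  intro hs
  obtain ⟨n, hn⟩ := hs.solvable
  have htop : ∀ m, derivedSeries P m = ⊤ := fun m => by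
    induction m with
    | zero => rfl
    | succ m ih =>
      rw [derivedSeries_succ, ih]
      refine Subgroup.map_injective P.subtype_injective ?_
      rw [Subgroup.map_commutator, ← MonoidHom.range_eq_map, P.range_subtype, h.perfect]
  refine h.not_comm fun a b => ?_
  have ha : a ∈ (⊥ : Subgroup P) := hn ▸ htop n ▸ Subgroup.mem_top a
  rw [Subgroup.mem_bot.1 ha, one_mul, mul_one]

variable [Finite P]

theorem Core.exists_involution (h : Core P) : ∃ t : P, orderOf t = 2 := by
  haveI : Fact (Nat.Prime 2) := ⟨Nat.prime_two⟩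
  refine exists_prime_orderOf_dvd_card' 2 ?_
  by_contra h2
  exact h.not_solvable (Cfsg.Agent.S0205.result
    (Nat.odd_iff.2 (by omega : Nat.card P % 2 = 1)))

/-- The kernel of a homomorphism is central or everything. -/
theorem Core.ker_cases (h : Core P) {A : Type*} [Monoid A] (φ : P →* A) :
    φ.ker ≤ Subgroup.center P ∨ φ.ker = ⊤ := by
  rcases h.normal_cases (N := φ.ker.map P.subtype) (Subgroup.map_subtype_le _) (by
    intro g hg x hx
    obtain ⟨y, hy, rfl⟩ := hx
    exact ⟨_, φ.normal_ker.conj_mem y hy ⟨g, hg⟩, rfl⟩) with h1 | h1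
  · exact Or.inl fun x hx => (h.mem_center_iff x).2 (h1 ⟨x, hx, rfl⟩)
  · refine Or.inr (eq_top_iff.2 fun x _ => ?_)
    obtain ⟨y, hy, e⟩ := (h1.symm ▸ x.2 : (x : GL (Fin 3) F) ∈ φ.ker.map P.subtype)
    exact P.subtype_injective e ▸ hy

theorem exists_scalar_of_sq {L : Type*} [Field L] (h2 : (2 : L) ≠ 0) {M : Matrix (Fin 2) (Fin 2) L}
    (hsq : M * M = 1) (hdet : M.det = 1) : ∃ c : L, M = c • (1 : Matrix (Fin 2) (Fin 2) L) := by
  rw [det_fin_two] at hdet
  have e00 := congrFun (congrFun hsq 0) 0
  have e01 := congrFun (congrFun hsq 0) 1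
  have e10 := congrFun (congrFun hsq 1) 0
  have e11 := congrFun (congrFun hsq 1) 1
  simp [Matrix.mul_apply, Fin.sum_univ_two] at e00 e01 e10 e11
  have ht : M 0 0 + M 1 1 ≠ 0 := fun h0 => h2 (by
    linear_combination (M 0 0) * h0 - hdet - e00)
  have h01 : M 0 1 = 0 :=
    (mul_eq_zero.1 (show (M 0 0 + M 1 1) * M 0 1 = 0 by linear_combination e01)).resolve_left ht
  have h10 : M 1 0 = 0 :=
    (mul_eq_zero.1 (show (M 0 0 + M 1 1) * M 1 0 = 0 by linear_combination e10)).resolve_left ht
  refine ⟨M 0 0, ?_⟩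
  ext i j
  fin_cases i <;> fin_cases j <;> simp [h01, h10]
  rw [h01, zero_mul, sub_zero] at hdet
  linear_combination (M 0 0) * hdet - (M 1 1) * (e00 - M 1 0 * h01)

/-- There is no nontrivial two-dimensional representation in odd characteristic. -/
theorem Core.two_dim_trivial (h : Core P) {L : Type*} [Field L] (h2 : (2 : L) ≠ 0)
    (φ : P →* GL (Fin 2) L) : φ = 1 := by
  have hdet : ∀ g, (mat (φ g)).det = 1 := fun g =>
    congrArg Units.val (inv_eq_one_of_hom h.perfect (Matrix.GeneralLinearGroup.det.comp φ) g)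
  rcases h.ker_cases φ with hk | hk
  swap
  · exact MonoidHom.ext fun g => show g ∈ φ.ker from hk ▸ Subgroup.mem_top g
  exfalso
  obtain ⟨t, ht⟩ := h.exists_involution
  have ht1 : t * t = 1 := by rw [← pow_two, ← ht]; exact pow_orderOf_eq_one t
  obtain ⟨c, hc⟩ := exists_scalar_of_sq h2 (M := mat (φ t))
    (by rw [mat, ← Units.val_mul, ← map_mul, ht1, map_one, Units.val_one]) (hdet t)
  have hcomm : ∀ g, t * g * t⁻¹ * g⁻¹ ∈ Subgroup.center P := fun g => hk (by
    rw [MonoidHom.mem_ker]
    simp only [map_mul, map_inv]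
    rw [show φ t * φ g = φ g * φ t from Units.ext (by simp [Units.val_mul, hc])]
    group)
  let δ : P →* Subgroup.center P :=
    MonoidHom.mk' (fun g => ⟨_, hcomm g⟩) fun g g' => Subtype.ext (by
      show t * (g * g') * t⁻¹ * (g * g')⁻¹ = (t * g * t⁻¹ * g⁻¹) * (t * g' * t⁻¹ * g'⁻¹)
      have hcz := Subgroup.mem_center_iff.1 (hcomm g')
      calc t * (g * g') * t⁻¹ * (g * g')⁻¹ = t * g * t⁻¹ * ((t * g' * t⁻¹ * g'⁻¹) * g⁻¹) := by group
        _ = t * g * t⁻¹ * (g⁻¹ * (t * g' * t⁻¹ * g'⁻¹)) := by rw [hcz g⁻¹]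
        _ = _ := by group)
  letI : CommGroup (Subgroup.center P) :=
    { (inferInstance : Group (Subgroup.center P)) with
      mul_comm := fun a b => Subtype.ext (Subgroup.mem_center_iff.1 b.2 a) }
  have hcent : t ∈ Subgroup.center P := by
    rw [Subgroup.mem_center_iff]
    intro g
    have h0 := inv_eq_one_of_hom (A := Subgroup.center P) h.perfect δ g
    have h1 : t * g * t⁻¹ * g⁻¹ = 1 := congrArg Subtype.val h0
    calc g * t = (t * g * t⁻¹ * g⁻¹) * g * t := by rw [h1, one_mul]
      _ = t * g := by group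
  have h3 := orderOf_dvd_of_pow_eq_one (h.center_cube hcent)
  rw [ht] at h3
  norm_num at h3

theorem Core.two_dim_trivial' (h : Core P) {L : Type*} [Field L] (h2 : (2 : L) ≠ 0) {V : Type*}
    [AddCommGroup V] [Module L V] (hV : Module.finrank L V = 2) (σ : Representation L P V) (g : P) :
    σ g = 1 := by
  haveI : FiniteDimensional L V := Module.finite_of_finrank_eq_succ hV
  let b := Module.finBasisOfFinrankEq L V hV
  let e := LinearMap.toMatrixAlgEquiv b
  let φ : P →* GL (Fin 2) L := (e.toMonoidHom.comp σ).toHomUnits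
  have h1 : φ g = 1 := DFunLike.congr_fun (h.two_dim_trivial h2 φ) g
  exact e.injective (by rw [map_one]; exact congrArg Units.val h1)

/-- A faithful three-dimensional representation fixes no line. -/
theorem Core.no_fixed_line (h : Core P) {L : Type*} [Field L] (h2 : (2 : L) ≠ 0)
    (ψ : P →* GL (Fin 3) L) (hinj : Function.Injective ψ) {v : Fin 3 → L} (hv : v ≠ 0) :
    ∃ g : P, ∀ c : L, mat (ψ g) *ᵥ v ≠ c • v := by
  by_contra hcon
  push Not at hcon
  choose c hc using hcon
  have hmul : ∀ g g', c (g * g') = c g * c g' := fun g g' => smul_left_injective L hv (by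
    show c (g * g') • v = (c g * c g') • v
    rw [← hc, map_mul, ← mulVec_mul, hc g', Matrix.mulVec_smul, hc g, smul_smul, mul_comm])
  have h1 : c 1 = 1 := smul_left_injective L hv (by
    show c 1 • v = (1 : L) • v
    rw [← hc, map_one, one_smul]
    exact Matrix.one_mulVec v)
  let χ : P →* L := { toFun := c, map_one' := h1, map_mul' := hmul }
  have hfix : ∀ g, mat (ψ g) *ᵥ v = v := fun g => by
    have := congrArg Units.val (inv_eq_one_of_hom h.perfect χ.toHomUnits g)
    rw [hc g, show c g = 1 from this, one_smul]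
  let W : Submodule L (Fin 3 → L) := L ∙ v
  have hW : ∀ g, W ≤ W.comap (Matrix.toLinAlgEquiv' (mat (ψ g))) := fun g x hx => by
    obtain ⟨a, rfl⟩ := Submodule.mem_span_singleton.1 hx
    show (Matrix.toLinAlgEquiv' (mat (ψ g))) (a • v) ∈ W
    rw [Matrix.toLinAlgEquiv'_apply, Matrix.mulVec_smul, hfix]
    exact Submodule.smul_mem _ _ (Submodule.mem_span_singleton_self v)
  have hact : ∀ g x, mat (ψ g) *ᵥ x - x ∈ W := by
    let σ : Representation L P ((Fin 3 → L) ⧸ W) :=
      { toFun := fun g => W.mapQ W (Matrix.toLinAlgEquiv' (mat (ψ g))) (hW g)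
        map_one' := Submodule.linearMap_qext _ (LinearMap.ext fun x => by simp [mat])
        map_mul' := fun g g' => Submodule.linearMap_qext _ (LinearMap.ext fun x => by
          simp [mat, Matrix.mulVec_mulVec]) }
    have hd : Module.finrank L ((Fin 3 → L) ⧸ W) = 2 := by
      have h3 := Submodule.finrank_quotient_add_finrank W
      rw [finrank_span_singleton hv, Module.finrank_fintype_fun_eq_card, Fintype.card_fin] at h3
      omega
    intro g x
    have h3 := LinearMap.congr_fun (h.two_dim_trivial' h2 hd σ g) (Submodule.Quotient.mk x)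
    exact (Submodule.Quotient.eq W).1 h3
  refine h.not_comm fun g g' => hinj (Units.ext (Matrix.ext_of_mulVec_single fun j => ?_))
  obtain ⟨a, ha⟩ := Submodule.mem_span_singleton.1 (hact g (Pi.single j 1))
  obtain ⟨b, hb⟩ := Submodule.mem_span_singleton.1 (hact g' (Pi.single j 1))
  show mat (ψ (g * g')) *ᵥ Pi.single j 1 = mat (ψ (g' * g)) *ᵥ Pi.single j 1
  rw [map_mul, map_mul, ← mulVec_mul, ← mulVec_mul, eq_add_of_sub_eq ha.symm,
    eq_add_of_sub_eq hb.symm, Matrix.mulVec_add, Matrix.mulVec_add, Matrix.mulVec_smul,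
    Matrix.mulVec_smul, hfix, hfix, eq_add_of_sub_eq ha.symm, eq_add_of_sub_eq hb.symm]
  abel

/-- A faithful three-dimensional representation has no proper invariant subspace. -/
theorem Core.irr_of_injective (h : Core P) {L : Type*} [Field L] (h2 : (2 : L) ≠ 0)
    (ψ : P →* GL (Fin 3) L) (hinj : Function.Injective ψ) : Irr ψ.range := by
  intro W hW
  by_contra hcon
  push Not at hcon
  have hlt := Submodule.finrank_lt hcon.2
  rw [Module.finrank_fintype_fun_eq_card, Fintype.card_fin] at hlt
  have hpos : 0 < Module.finrank L W :=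
    Nat.pos_of_ne_zero fun e => hcon.1 (Submodule.finrank_eq_zero.1 e)
  obtain hd | hd : Module.finrank L W = 1 ∨ Module.finrank L W = 2 := by omega
  · obtain ⟨v, hvW, hv⟩ := W.exists_mem_ne_zero_of_ne_bot hcon.1
    obtain ⟨g, hg⟩ := h.no_fixed_line h2 ψ hinj hv
    obtain ⟨c, hc⟩ := exists_smul_eq_of_finrank_eq_one (K := L) (V := W) hd
      (x := ⟨v, hvW⟩) (fun e => hv (congrArg Subtype.val e)) ⟨_, hW _ ⟨g, rfl⟩ v hvW⟩
    exact hg c (congrArg Subtype.val hc).symm
  · obtain ⟨φ, hφ, hle⟩ := Submodule.exists_le_ker_of_lt_top _ (lt_top_iff_ne_top.2 hcon.2)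
    let α : Fin 3 → L := fun i => φ (Pi.single i 1)
    have hφα : ∀ x, φ x = α ⬝ᵥ x := fun x => by
      conv_lhs => rw [pi_eq_sum_univ' x]
      simp [map_sum, map_smul, dotProduct, α, mul_comm]
    have hα : α ≠ 0 := fun e => hφ (LinearMap.ext fun x => by rw [hφα, e, zero_dotProduct]; rfl)
    have hWα : W = dker α := Submodule.eq_of_le_of_finrank_eq
      (fun x hx => mem_dker.2 (hφα x ▸ LinearMap.mem_ker.1 (hle hx))) (hd.trans (finrank_dker hα).symm)
    obtain ⟨i, hi⟩ := Function.ne_iff.1 hα
    obtain ⟨g, hg⟩ := h.no_fixed_line h2 (dualHom.comp ψ)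
      (fun a b e => hinj (by simpa [dualHom_dualHom] using congrArg dualHom e)) hα
    let β : Fin 3 → L := α ᵥ* mat (ψ g⁻¹)
    refine hg (β i / α i) ?_
    rw [MonoidHom.comp_apply, mat_dualHom, Matrix.mulVec_transpose, ← map_inv]
    show β = (β i / α i) • α
    funext j
    have hmem : (Pi.single j 1 - (α j / α i) • Pi.single i 1 : Fin 3 → L) ∈ W := by
      rw [hWα, mem_dker, dotProduct_sub, dotProduct_smul, dotProduct_single, dotProduct_single,
        smul_eq_mul, mul_one, mul_one, div_mul_cancel₀ _ hi, sub_self]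
    have h3 := hW _ ⟨g⁻¹, rfl⟩ _ hmem
    rw [hWα, mem_dker, Matrix.dotProduct_mulVec, dotProduct_sub, dotProduct_smul, dotProduct_single,
      dotProduct_single, smul_eq_mul, mul_one, mul_one, sub_eq_zero] at h3
    rw [Pi.smul_apply, smul_eq_mul, show β j = _ from h3]
    ring

end Cfsg.Agent.ResidualThree
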