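import Cfsg.Agent.ResidualThree.Lift.Complex
import Cfsg.Agent.ResidualThree.Lift.Finite
import Cfsg.Agent.ResidualThree.Lift.SL2
import Cfsg.Agent.BlichTwoEig.Basic
import Mathlib.FieldTheory.IsAlgClosed.AlgebraicClosure

/-!
# Reduction of a group of order prime to the characteristic modulo another prime

A core group of order prime to the characteristic lifts to the complex numbers and reduces modulo any
prime `r ≥ 5` dividing its order to a core group with abelian Sylow `r`-subgroups.
-/

set_option autoImplicit false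
set_option linter.unusedVariables false

namespace Cfsg.Agent.ResidualThree

open Matrix Cfsg.Geo Cfsg.Agent.PrimeDim
open scoped MatrixGroups

/-- An isomorphic absolutely irreducible group is again a core group. -/
theorem Core.of_equiv {F : Type*} [Field F] {P : Subgroup (GL (Fin 3) F)} (hP : Core P) {k : Type*}
    [Field k] {Q : Subgroup (GL (Fin 3) k)} (e : P ≃* Q) (habs : ActsAbsolutelyIrreducibly (matrixSet Q)) :
    Core Q := by
  have hperf : ⁅Q, Q⁆ = Q := by
    have h1 : ⁅(⊤ : Subgroup P), (⊤ : Subgroup P)⁆ = (⊤ : Subgroup P) := by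
      refine Subgroup.map_injective P.subtype_injective ?_
      rw [Subgroup.map_commutator, ← MonoidHom.range_eq_map, P.range_subtype, hP.perfect]
    have h2 : (Q.subtype.comp e.toMonoidHom).range = Q := by
      rw [MonoidHom.range_comp, MonoidHom.range_eq_top.2 e.surjective, ← MonoidHom.range_eq_map,
        Q.range_subtype]
    have h3 := congrArg (Subgroup.map (Q.subtype.comp e.toMonoidHom)) h1
    rwa [Subgroup.map_commutator, ← MonoidHom.range_eq_map, h2] at h3
  have hcen : ((scalars (Fin 3) F).subgroupOf P).map (e : P →* Q) = (scalars (Fin 3) k).subgroupOf Q := by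
    ext y
    constructor
    · rintro ⟨z, hz, rfl⟩
      obtain ⟨c, hc⟩ := (abs_iff.1 habs).2 (mat (e z : GL (Fin 3) k)) fun g hg => by
        have h1 : z * e.symm ⟨g, hg⟩ = e.symm ⟨g, hg⟩ * z :=
          (Subgroup.mem_center_iff.1 ((hP.mem_center_iff z).2 hz) _).symm
        have h2 := congrArg e h1
        rw [map_mul, map_mul, e.apply_symm_apply] at h2
        exact congrArg (fun x : Q => mat (x : GL (Fin 3) k)) h2
      exact mem_scalars_of_smul hc
    · intro hy
      refine ⟨e.symm y, (hP.mem_center_iff _).1 (Subgroup.mem_center_iff.2 fun g => e.injective ?_),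
        e.apply_symm_apply y⟩
      rw [map_mul, map_mul, e.apply_symm_apply]
      exact Subtype.ext (scalar_commute hy _).symm
  let e' := QuotientGroup.congr ((scalars (Fin 3) F).subgroupOf P) ((scalars (Fin 3) k).subgroupOf Q) e hcen
  haveI := hP.simple
  exact ⟨hperf, e'.isSimpleGroup_congr.1 hP.simple,
    fun h => hP.nonab ⟨⟨fun a b => e'.injective (by rw [map_mul, map_mul, mul_comm' (e' a)])⟩⟩, habs⟩

variable {F : Type*} [Field F] [Finite F] {P : Subgroup (GL (Fin 3) F)}

/-- The image of a faithful three-dimensional representation in odd characteristic is absolutely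
irreducible. -/
theorem Core.abs_of_injective (hP : Core P) {k : Type*} [Field k] (h2 : (2 : k) ≠ 0)
    (ψ : P →* GL (Fin 3) k) (hψ : Function.Injective ψ) :
    ActsAbsolutelyIrreducibly (matrixSet ψ.range) := by
  refine abs_iff.2 ⟨hP.irr_of_injective h2 ψ hψ, fun A hA => ?_⟩
  let L := AlgebraicClosure k
  let f : k →+* L := algebraMap k L
  have h2' : (2 : L) ≠ 0 := by
    rw [← map_ofNat f 2]; exact (map_ne_zero f).2 h2
  let ψL : P →* GL (Fin 3) L := (Matrix.GeneralLinearGroup.map f).comp ψ
  have hψL : Function.Injective ψL := (Lift.GL_map_injective f f.injective).comp hψ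
  have hirr := hP.irr_of_injective h2' ψL hψL
  obtain ⟨lam, hlam⟩ := Module.End.exists_eigenvalue (Matrix.toLin' (A.map f))
  let W := Module.End.eigenspace (Matrix.toLin' (A.map f)) lam
  have hW : Inv ψL.range W := by
    rintro _ ⟨g, rfl⟩ v hv
    rw [Module.End.mem_eigenspace_iff, Matrix.toLin'_apply] at hv ⊢
    have h1 : A.map f * mat (ψL g) = mat (ψL g) * A.map f := by
      show A.map f * (mat (ψ g)).map f = (mat (ψ g)).map f * A.map f
      rw [← Matrix.map_mul, ← Matrix.map_mul, hA _ ⟨g, rfl⟩]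
    rw [Matrix.mulVec_mulVec, h1, ← Matrix.mulVec_mulVec, hv, Matrix.mulVec_smul]
  have htop : W = ⊤ := (hirr W hW).resolve_left hlam
  have hent : ∀ i j, f (A i j) = lam * (1 : Matrix (Fin 3) (Fin 3) L) i j := fun i j => by
    have h1 : (Pi.single j (1 : L) : Fin 3 → L) ∈ W := htop ▸ Submodule.mem_top
    rw [Module.End.mem_eigenspace_iff, Matrix.toLin'_apply, Matrix.mulVec_single_one] at h1
    have h3 := congrFun h1 i
    simpa [Matrix.one_apply, Pi.single_apply, Matrix.col_apply] using h3
  refine ⟨A 0 0, ?_⟩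
  have h00 : f (A 0 0) = lam := by rw [hent, Matrix.one_apply_eq, mul_one]
  ext i j
  refine f.injective ?_
  rw [hent, Matrix.smul_apply, smul_eq_mul, map_mul, h00]
  congr 1
  rcases eq_or_ne i j with rfl | hij
  · simp
  · simp [Matrix.one_apply_ne hij]

/-- Reduction modulo another prime. -/
theorem Core.exists_reduction (hP : Core P) (p : ℕ) [Fact p.Prime] [CharP F p] (hp : ¬ p ∣ Nat.card P)
    (r : ℕ) [Fact r.Prime] (hr : r ∣ Nat.card P) (h5 : 5 ≤ r) :
    ∃ (k : Type) (_ : Field k) (_ : Finite k) (_ : CharP k r) (Q : Subgroup (GL (Fin 3) k)),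
      Core Q ∧ Nonempty (P ≃* Q) ∧ (∀ R : Subgroup Q, IsPGroup r R → IsMulCommutative R) := by
  have hr' : r.Prime := Fact.out
  obtain ⟨ρ, hρ⟩ := Lift.exists_complex P p hp
  obtain ⟨k, hf, hfin, hchar, ψ, hψ⟩ := Lift.exists_reduction_hom ρ hρ r
  -- the kernel is an `r`-group
  have hker : IsPGroup r ψ.ker := by
    rintro ⟨g, hg⟩
    obtain ⟨a, m, hm, hN⟩ := Nat.exists_eq_pow_mul_and_not_dvd (orderOf_pos g).ne' r hr'.ne_one
    refine ⟨a, Subtype.ext (hψ (g ^ r ^ a) (by rw [map_pow, MonoidHom.mem_ker.1 hg, one_pow]) ?_)⟩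
    rw [orderOf_pow_of_dvd (pow_ne_zero _ hr'.ne_zero) (hN ▸ dvd_mul_right _ _), hN,
      Nat.mul_div_cancel_left _ (pow_pos hr'.pos a)]
    exact hm
  have hinj : Function.Injective ψ := by
    rw [← MonoidHom.ker_eq_bot_iff, eq_bot_iff]
    rcases hP.ker_cases ψ with h | h
    · intro g hg
      obtain ⟨a, ha⟩ := hker ⟨g, hg⟩
      have h1 : g ^ r ^ a = 1 := congrArg Subtype.val ha
      have h3 : orderOf g ∣ Nat.gcd 3 (r ^ a) :=
        Nat.dvd_gcd (orderOf_dvd_of_pow_eq_one (hP.center_cube (h hg))) (orderOf_dvd_of_pow_eq_one h1)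
      rw [Nat.Coprime.gcd_eq_one (Nat.Coprime.pow_right a
        ((Nat.coprime_primes Nat.prime_three hr').2 (by omega))), Nat.dvd_one, orderOf_eq_one_iff] at h3
      exact Subgroup.mem_bot.2 h3
    · exfalso
      rw [h] at hker
      have hPr : IsPGroup r P := hker.of_equiv Subgroup.topEquiv
      haveI := hPr.isNilpotent
      exact hP.not_solvable inferInstance
  have h2 : (2 : k) ≠ 0 := fun h => by
    have h0 : ((2 : ℕ) : k) = 0 := by exact_mod_cast h
    have := Nat.le_of_dvd two_pos ((CharP.cast_eq_zero_iff k r 2).1 h0)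
    omega
  refine ⟨k, hf, hfin, hchar, ψ.range,
    hP.of_equiv (MonoidHom.ofInjective hinj) (hP.abs_of_injective h2 ψ hinj), ⟨MonoidHom.ofInjective hinj⟩,
    fun R hR => ⟨⟨fun x y => ?_⟩⟩⟩
  let e := MonoidHom.ofInjective hinj
  let τ : R →* GL (Fin 3) ℂ := ρ.comp (e.symm.toMonoidHom.comp R.subtype)
  have hτ : Function.Injective τ := hρ.comp (e.symm.injective.comp R.subtype_injective)
  let σ : Representation ℂ R (Fin 3 → ℂ) :=
    (Matrix.toLinAlgEquiv' (R := ℂ) (n := Fin 3)).toMonoidHom.comp ((Units.coeHom _).comp τ)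
  have h := BlichTwoEig.comm_of_lt hr' hR σ
    (by rw [Module.finrank_fintype_fun_eq_card, Fintype.card_fin]; omega) x y
  exact hτ (Units.ext (Matrix.toLinAlgEquiv'.injective h))

end Cfsg.Agent.ResidualThree
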